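import Cfsg.Agent.Lib.FourFree.Stellmacher.MinPar
import Cfsg.Prelude.Def_ConjugacyFunctors

/-!
# The largest good subgroup lying in every `O₂`

`Safe W`: `W` is good and lies in `O₂(G)` for every minimal member `G`.  The largest safe subgroup
`closureW S` is characteristic and contains `Ω₁ Z(S)`.  If there is no configuration `Config` it is
normal in every member.
-/

set_option autoImplicit false
set_option linter.style.haveILetI false

open Subgroup

namespace CfsgLib.FourFree.Stellmacher

universe u

variable {S : Type u} [Group S]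

/-- A good subgroup lying in `O₂` of every minimal member. -/
structure Safe (W : Subgroup S) : Prop where
  good : GoodIn W
  le_core : ∀ (G : Type u) [Group G] [Finite G] (τ : S →* G), IsMember G τ → IsMinimal τ →
    W.map τ ≤ Cfsg.pCore 2 G

/-- The subgroup generated by all safe subgroups. -/
def closureW (S : Type u) [Group S] : Subgroup S := sSup {W : Subgroup S | Safe W}

theorem map_le_pCore_of_omegaZ {G : Type u} [Group G] [Finite G] {τ : S →* G} (hm : IsMember G τ) :
    (omegaZ S).map τ ≤ Cfsg.pCore 2 G := by
  rintro _ ⟨z, hz, rfl⟩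
  refine hm.constrained (mem_centralizer_iff.2 fun x hx => ?_)
  obtain ⟨s, rfl⟩ := hm.pCore_le_range hx
  rw [← map_mul, ← map_mul, Subgroup.mem_center_iff.1 hz.1 s]

theorem safe_omegaZ : Safe (omegaZ S) :=
  ⟨goodIn_omegaZ, fun _ _ _ _ hm _ => map_le_pCore_of_omegaZ hm⟩

variable [Finite S]

theorem safe_closureW (S : Type u) [Group S] [Finite S] : Safe (closureW S) := by
  obtain ⟨M, hM, hmax⟩ := (Set.toFinite {W : Subgroup S | Safe W}).exists_maximal
    ⟨_, safe_omegaZ⟩
  have e : closureW S = M := by
    refine le_antisymm (sSup_le fun W hW => ?_) (le_sSup hM)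
    have h : Safe (M ⊔ W) := ⟨hM.good.sup' hW.good, fun G _ _ τ hm hmin => by
      rw [Subgroup.map_sup]
      exact sup_le (hM.le_core G τ hm hmin) (hW.le_core G τ hm hmin)⟩
    exact le_sup_right.trans (hmax h le_sup_left)
  exact e ▸ hM

theorem le_closureW {W : Subgroup S} (h : Safe W) : W ≤ closureW S := le_sSup h

theorem omegaZ_le_closureW : omegaZ S ≤ closureW S := le_closureW safe_omegaZ

theorem Safe.map {R : Type u} [Group R] [Finite R] {W : Subgroup S} (h : Safe W) (e : S ≃* R) :
    Safe (W.map e.toMonoidHom) := by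
  refine ⟨h.good.map e, fun G _ _ τ hm hmin => ?_⟩
  have hr : (τ.comp e.toMonoidHom).range = τ.range :=
    by rw [MonoidHom.range_comp, MonoidHom.range_eq_top.2 e.surjective, ← MonoidHom.range_eq_map]
  have h' := h.le_core G (τ.comp e.toMonoidHom)
    ⟨hm.inj.comp e.injective, by obtain ⟨P, hP⟩ := hm.sylow; exact ⟨P, hP.trans hr.symm⟩,
      hm.free, hm.constrained⟩ (by unfold IsMinimal; rw [hr]; exact hmin)
  rwa [← map_map] at h'

theorem closureW_map {R : Type u} [Group R] [Finite R] (e : S ≃* R) :
    (closureW S).map e.toMonoidHom = closureW R := by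
  refine le_antisymm (le_closureW ((safe_closureW S).map e)) fun x hx => ?_
  exact ⟨e.symm x, le_closureW ((safe_closureW R).map e.symm)
    ⟨x, hx, rfl⟩, e.apply_symm_apply x⟩

theorem closureW_characteristic : (closureW S).Characteristic :=
  characteristic_iff_map_eq.2 fun φ => closureW_map φ

theorem closureW_ne_bot [Nontrivial S] (hS : IsPGroup 2 S) : closureW S ≠ ⊥ := by
  haveI : Fact (Nat.Prime 2) := ⟨Nat.prime_two⟩
  haveI := hS.center_nontrivial
  intro h
  obtain ⟨k, hk⟩ := (hS.to_subgroup (center S)).exists_card_eq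
  have h1 : 1 < Nat.card (center S) := Finite.one_lt_card
  rcases k with - | k
  · simp [hk] at h1
  obtain ⟨z, hz⟩ := exists_prime_orderOf_dvd_card' (G := center S) 2
    (hk ▸ dvd_pow_self 2 (Nat.succ_ne_zero k))
  have hzz : (z : S) ∈ omegaZ S := ⟨z.2, by
    have e : z ^ 2 = 1 := hz ▸ pow_orderOf_eq_one z
    rw [← pow_two]; exact congrArg Subtype.val e⟩
  have h0 := omegaZ_le_closureW hzz
  rw [h, mem_bot] at h0
  rw [show z = 1 from Subtype.ext h0, orderOf_one] at hz
  omega

/-- A good subgroup in `O₂(G)`, for a minimal member `G` in which some good subgroup is not in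
`O₂(G)`, is normal in `G` and centralized by `O²(G)`. -/
theorem IsMember.normal_of_good {G : Type u} [Group G] [Finite G] {τ : S →* G}
    (hm : IsMember G τ) (hmin : IsMinimal τ) {W : Subgroup S} (hW : GoodIn W)
    (hWQ : ¬ W.map τ ≤ Cfsg.pCore 2 G) {U : Subgroup S} (hU : GoodIn U)
    (hUQ : U.map τ ≤ Cfsg.pCore 2 G) :
    (U.map τ).Normal ∧ Cfsg.pResidual 2 G ≤ centralizer (U.map τ : Set G) := by
  set V := normalClosure (U.map τ : Set G) with hV
  haveI : V.Normal := normalClosure_normal
  have hVr : V ≤ τ.range := (hm.normalClosure_le_pCore hUQ).trans hm.pCore_le_range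
  have hc := hW.commute (hm.good_span hU hUQ)
  have hWC : W.map τ ≤ centralizer (V : Set G) := by
    rw [map_le_iff_le_comap]
    refine hc.trans (le_of_eq ?_)
    rw [← comap_centralizer_map hm.inj, map_comap_eq_self hVr]
  have htop := hm.sup_range_eq_top hmin (N := centralizer (V : Set G)) inferInstance
    fun h => hWQ ((le_inf (map_le_range τ W) hWC).trans h)
  have hUV : centralizer (V : Set G) ≤ centralizer (U.map τ : Set G) :=
    centralizer_le subset_normalClosure
  haveI := hU.normal
  exact ⟨Subgroup.normalizer_eq_top_iff.1 (top_le_iff.1 (htop.ge.trans (sup_le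
    (hUV.trans (centralizer_le_normalizer _)) (range_le_normalizer_map τ U)))),
    (hm.residual_le inferInstance htop).trans hUV⟩

/-- The preimage of the normal closure of `τ U`. -/
def spanOf {G : Type u} [Group G] (τ : S →* G) (U : Subgroup S) : Subgroup S :=
  (normalClosure (U.map τ : Set G)).comap τ

/-- The configuration to be excluded: `U` is the largest safe subgroup, normal in the minimal
member `G` and centralized by `O²(G)`, and the good subgroup `W` generated by its conjugates in
the minimal member `G'` is not in `O₂(G)`. -/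
structure Config (G G' : Type u) [Group G] [Group G'] (τ : S →* G) (τ' : S →* G')
    (U : Subgroup S) : Prop where
  two : IsPGroup 2 S
  member : IsMember G τ
  minimal : IsMinimal τ
  member' : IsMember G' τ'
  minimal' : IsMinimal τ'
  good : GoodIn U
  char : U.Characteristic
  le_core : ∀ (H : Type u) [Group H] [Finite H] (η : S →* H), IsMember H η → IsMinimal η →
    U.map η ≤ Cfsg.pCore 2 H
  maximal : ∀ U' : Subgroup S, Safe U' → U' ≤ U
  omega_le : omegaZ S ≤ U
  normal : (U.map τ).Normal
  residual : Cfsg.pResidual 2 G ≤ centralizer (U.map τ : Set G)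
  good_span : GoodIn (spanOf τ' U)
  span_le : (spanOf τ' U).map τ' ≤ Cfsg.pCore 2 G'
  not_le : ¬ (spanOf τ' U).map τ ≤ Cfsg.pCore 2 G

/-- There is no configuration over `S`. -/
def NoConfig (S : Type u) [Group S] : Prop :=
  ∀ (G G' : Type u) [Group G] [Group G'] [Finite G] [Finite G'] (τ : S →* G) (τ' : S →* G')
    (U : Subgroup S), Config G G' τ τ' U → False

/-- Without a configuration the largest safe subgroup is normal in every member. -/
theorem closureW_normal (hS : IsPGroup 2 S) (hno : NoConfig S) {G : Type u} [Group G] [Finite G]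
    {τ : S →* G} (hm : IsMember G τ) : ((closureW S).map τ).Normal := by
  set U := closureW S with hU
  have hsafe : Safe U := safe_closureW S
  refine normal_of_minimal closureW_characteristic (fun G' _ _ τ' hm' hmin' => ?_) hm
  have hQ' : U.map τ' ≤ Cfsg.pCore 2 G' := hsafe.le_core G' τ' hm' hmin'
  set W := spanOf τ' U with hW
  have hWgood : GoodIn W := hm'.good_span hsafe.good hQ'
  have hVr : normalClosure (U.map τ' : Set G') ≤ τ'.range :=
    (hm'.normalClosure_le_pCore hQ').trans hm'.pCore_le_range
  have hWmap : W.map τ' = normalClosure (U.map τ' : Set G') := map_comap_eq_self hVr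
  have hWsafe : Safe W := by
    refine ⟨hWgood, fun H _ _ η hmH hminH => ?_⟩
    by_contra hne
    obtain ⟨hn, hr⟩ := hmH.normal_of_good hminH hWgood hne hsafe.good
      (hsafe.le_core H η hmH hminH)
    exact hno H G' η τ' U ⟨hS, hmH, hminH, hm', hmin', hsafe.good, closureW_characteristic,
      hsafe.le_core, fun U' h => le_closureW h, omegaZ_le_closureW, hn, hr, hWgood,
      by rw [← hW, hWmap]; exact hm'.normalClosure_le_pCore hQ', hne⟩
  have e : normalClosure (U.map τ' : Set G') = U.map τ' :=
    le_antisymm (hWmap ▸ map_mono (le_closureW hWsafe)) subset_normalClosure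
  rw [← e]
  exact normalClosure_normal

end CfsgLib.FourFree.Stellmacher
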