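import Cfsg.Agent.Lib.FourFree.Sections
import Cfsg.Prelude.Def_Transfer
import Cfsg.Prelude.Def_PLocal

/-!
# Good subgroups of a `2`-group

A normal subgroup `W` of exponent two of `S` is good if a subgroup `X` of `S` with elementary
abelian image on `W` and `|W : C_W(X)| ≤ |X : C_X(W)|` centralizes `W`.  Commuting good subgroups
have a good product and every good subgroup lies in `Z(J(S))`, so there is a largest one.
-/

set_option autoImplicit false
set_option linter.style.haveILetI false

open Subgroup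

namespace CfsgLib.FourFree.Stellmacher

universe u

variable {S : Type u} [Group S]

/-- A good subgroup of a `2`-group. -/
structure GoodIn (W : Subgroup S) : Prop where
  normal : W.Normal
  sq : ∀ w ∈ W, w * w = 1
  good : ∀ X : Subgroup S, (∀ x ∈ X, x * x ∈ centralizer (W : Set S)) →
    (centralizer (X : Set S)).relIndex W ≤ (centralizer (W : Set S)).relIndex X →
    X ≤ centralizer (W : Set S)

/-- The elements of order at most two in the centre. -/
def omegaZ (S : Type u) [Group S] : Subgroup S where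
  carrier := {x | x ∈ center S ∧ x * x = 1}
  one_mem' := ⟨one_mem _, one_mul 1⟩
  mul_mem' := fun {a b} ha hb => ⟨mul_mem ha.1 hb.1, by
    rw [(show Commute b a from (Subgroup.mem_center_iff.1 hb.1 a).symm).mul_mul_mul_comm, ha.2, hb.2,
      one_mul]⟩
  inv_mem' := fun {a} ha => ⟨inv_mem ha.1, by rw [← mul_inv_rev, ha.2, inv_one]⟩

theorem commute_of_sq' {W : Subgroup S} (h : ∀ w ∈ W, w * w = 1) {a b : S} (ha : a ∈ W)
    (hb : b ∈ W) : Commute a b := by
  have ea : a⁻¹ = a := inv_eq_of_mul_eq_one_right (h a ha)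
  have eb : b⁻¹ = b := inv_eq_of_mul_eq_one_right (h b hb)
  show a * b = b * a
  rw [← inv_eq_of_mul_eq_one_right (h _ (mul_mem ha hb)), mul_inv_rev, ea, eb]

theorem isElementaryAbelian_of_sq {W : Subgroup S} (h : ∀ w ∈ W, w * w = 1) :
    Cfsg.IsElementaryAbelian 2 W :=
  ⟨⟨⟨fun a b => Subtype.ext (commute_of_sq' h a.2 b.2).eq⟩⟩,
    fun a ha => by rw [pow_two]; exact h a ha⟩

theorem sq_of_elementary {W : Subgroup S} (h : Cfsg.IsElementaryAbelian 2 W) :
    ∀ w ∈ W, w * w = 1 := fun w hw => by rw [← pow_two]; exact h.2 w hw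

theorem sq_sup {A B : Subgroup S} (hB : B.Normal) (ha : ∀ a ∈ A, a * a = 1)
    (hb : ∀ b ∈ B, b * b = 1) (hc : A ≤ centralizer (B : Set S)) :
    ∀ x ∈ A ⊔ B, x * x = 1 := by
  intro x hx
  haveI := hB
  obtain ⟨a, haA, b, hbB, rfl⟩ := Subgroup.mem_sup_of_normal_right.1 hx
  rw [(show Commute b a from (mem_centralizer_iff.1 (hc haA) b hbB)).mul_mul_mul_comm, ha a haA,
    hb b hbB, one_mul]

theorem centralizer_sup (A B : Subgroup S) : centralizer ((A ⊔ B : Subgroup S) : Set S) =
    centralizer (A : Set S) ⊓ centralizer (B : Set S) := by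
  refine le_antisymm (le_inf (centralizer_le (SetLike.coe_subset_coe.2 le_sup_left))
    (centralizer_le (SetLike.coe_subset_coe.2 le_sup_right))) fun x hx => mem_centralizer_iff.2 ?_
  intro y hy
  have h : A ⊔ B ≤ centralizer ({x} : Set S) := sup_le
    (fun a ha => mem_centralizer_singleton_iff.2 (mem_centralizer_iff.1 hx.1 a ha))
    (fun b hb => mem_centralizer_singleton_iff.2 (mem_centralizer_iff.1 hx.2 b hb))
  exact mem_centralizer_singleton_iff.1 (h hy)

theorem goodIn_omegaZ : GoodIn (omegaZ S) where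
  normal := ⟨fun x hx g => by
    rw [(Subgroup.mem_center_iff.1 hx.1 g), mul_inv_cancel_right]; exact hx⟩
  sq := fun _ hx => hx.2
  good := fun _ _ _ x _ => mem_centralizer_iff.2 fun _ hz => (Subgroup.mem_center_iff.1 hz.1 x).symm

theorem goodIn_bot : GoodIn (⊥ : Subgroup S) where
  normal := inferInstance
  sq := fun w hw => by rw [mem_bot.1 hw, one_mul]
  good := fun _ _ _ x _ => mem_centralizer_iff.2 fun z hz => by
    rw [mem_bot.1 (show z ∈ (⊥ : Subgroup S) from hz), one_mul, mul_one]

variable [Finite S]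

/-- The product of two commuting good subgroups is good. -/
theorem GoodIn.sup {W1 W2 : Subgroup S} (h1 : GoodIn W1) (h2 : GoodIn W2)
    (hc : W1 ≤ centralizer (W2 : Set S)) : GoodIn (W1 ⊔ W2) := by
  haveI := h1.normal
  haveI := h2.normal
  refine ⟨inferInstance, sq_sup h2.normal h1.sq h2.sq hc, fun X hX hoff => ?_⟩
  rw [centralizer_sup] at hoff ⊢
  simp only [centralizer_sup, mem_inf] at hX
  set C1 := centralizer (W1 : Set S)
  set C2 := centralizer (W2 : Set S)
  set CX := centralizer (X : Set S)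
  set X1 := X ⊓ C1 with hX1
  set CX1 := centralizer (X1 : Set S)
  set W := W1 ⊔ W2 with hW
  have hab : (C1 ⊓ C2).relIndex X = C2.relIndex X1 * C1.relIndex X := by
    rw [← inf_relIndex_right (C1 ⊓ C2), ← inf_relIndex_right C1, ← inf_relIndex_right C2,
      show C1 ⊓ X = X1 from inf_comm _ _,
      show C2 ⊓ X1 = C1 ⊓ C2 ⊓ X from by rw [hX1, inf_comm X C1, ← inf_assoc, inf_comm C2 C1],
      relIndex_mul_relIndex _ _ _ (le_inf inf_le_right (inf_le_left.trans inf_le_left))
        inf_le_left]
  have hW1 : W1 ≤ CX1 ⊓ W := le_inf (fun w hw => mem_centralizer_iff.2 fun x hx =>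
    (mem_centralizer_iff.1 hx.2 w hw).symm) le_sup_left
  have hCXX1 : CX ≤ CX1 := centralizer_le (SetLike.coe_subset_coe.2 inf_le_left)
  have hii : CX.relIndex W1 * CX1.relIndex W2 ≤ CX.relIndex W := by
    have hm : CX.relIndex (CX1 ⊓ W) * CX1.relIndex W = CX.relIndex W := by
      rw [← inf_relIndex_right CX1 W, ← inf_relIndex_right CX W, ← inf_relIndex_right CX (CX1 ⊓ W),
        show CX ⊓ (CX1 ⊓ W) = CX ⊓ W from by rw [← inf_assoc, inf_eq_left.2 hCXX1],
        relIndex_mul_relIndex _ _ _ (inf_le_inf_right _ hCXX1) inf_le_right]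
    rw [← hm]
    exact Nat.mul_le_mul (relIndex_le_of_le_right hW1 index_ne_zero_of_finite)
      (relIndex_le_of_le_right le_sup_right index_ne_zero_of_finite)
  rw [hab] at hoff
  have hle := hii.trans hoff
  by_cases e1 : X ≤ C1
  · have hX1X : X1 = X := inf_eq_left.2 e1
    have e : C1.relIndex X = 1 := relIndex_eq_one.2 e1
    have e' : CX.relIndex W1 = 1 := relIndex_eq_one.2 fun w hw =>
      mem_centralizer_iff.2 fun x hx => (mem_centralizer_iff.1 (e1 hx) w hw).symm
    rw [e, e', one_mul, mul_one] at hle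
    have := h2.good X1 (fun x hx => (hX x hx.1).2) hle
    exact le_inf e1 (hX1X ▸ this)
  · exfalso
    have hlt : C1.relIndex X < CX.relIndex W1 := by
      by_contra hge
      exact e1 (h1.good X (fun x hx => (hX x hx).1) (not_lt.1 hge))
    have hpos : 0 < CX1.relIndex W2 := Nat.pos_of_ne_zero index_ne_zero_of_finite
    by_cases e2 : X1 ≤ C2
    · rw [relIndex_eq_one.2 e2, one_mul] at hle
      exact absurd (hle.trans_lt' (lt_of_lt_of_le hlt (Nat.le_mul_of_pos_right _ hpos))) (lt_irrefl _)
    · have hlt2 : C2.relIndex X1 < CX1.relIndex W2 := by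
        by_contra hge
        exact e2 (h2.good X1 (fun x hx => (hX x hx.1).2) (not_lt.1 hge))
      have := Nat.mul_lt_mul_of_lt_of_lt hlt hlt2
      rw [mul_comm (C2.relIndex X1)] at hle
      omega

/-- A good subgroup lies in every elementary abelian subgroup of largest order. -/
theorem GoodIn.le_maxEA {W : Subgroup S} (h : GoodIn W) {A : Subgroup S}
    (hA : A ∈ Cfsg.maxElementaryAbelianSubgroups 2 S) : W ≤ A := by
  haveI := h.normal
  have hA2 := sq_of_elementary hA.1
  set CW := centralizer (W : Set S) with hCW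
  set A' := A ⊓ CW with hA'
  have hcard : ∀ {B : Subgroup S}, B ≤ A ⊓ CW → Nat.card (B ⊔ W : Subgroup S) ≤ Nat.card A :=
    fun hB => hA.2 _ (isElementaryAbelian_of_sq (sq_sup h.normal
      (fun a ha => hA2 a (hB ha).1) h.sq fun a ha => (hB ha).2))
  have hle : A ≤ CW := by
    refine h.good A (fun a ha => by rw [hA2 a ha]; exact one_mem _) ?_
    have h1 := (CfsgLib.FourFree.card_mul_card_le A' W).trans (Nat.mul_le_mul_right _ (hcard le_rfl))
    have h2 : Nat.card A' * CW.relIndex A = Nat.card A := by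
      rw [hA', ← inf_relIndex_left A CW, CfsgLib.CFun.card_mul_relIndex' inf_le_left]
    have h3 : Nat.card (A' ⊓ W : Subgroup S) ≤ Nat.card (W ⊓ centralizer (A : Set S) : Subgroup S) :=
      card_le_of_le fun x hx => ⟨hx.2, mem_centralizer_iff.2 fun a ha =>
        (commute_of_sq' hA2 ha hx.1.1).eq⟩
    have h4 : Nat.card (W ⊓ centralizer (A : Set S) : Subgroup S) *
        (centralizer (A : Set S)).relIndex W = Nat.card W := by
      rw [← inf_relIndex_left W, CfsgLib.CFun.card_mul_relIndex' inf_le_left]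
    refine Nat.le_of_mul_le_mul_left ?_ (Nat.mul_pos (Nat.card_pos (α := A'))
      (Nat.card_pos (α := (W ⊓ centralizer (A : Set S) : Subgroup S))))
    rw [mul_assoc, h4, mul_right_comm, h2]
    exact h1.trans (Nat.mul_le_mul_left _ h3)
  have h5 := hcard (B := A) (le_inf le_rfl hle)
  exact le_sup_right.trans (eq_of_le_of_card_ge (le_sup_left : A ≤ A ⊔ W) h5).ge

omit [Finite S] in
theorem exists_maxEA (S : Type u) [Group S] [Finite S] :
    (Cfsg.maxElementaryAbelianSubgroups 2 S).Nonempty := by
  obtain ⟨A, hA, hmax⟩ := (Set.toFinite {A : Subgroup S | Cfsg.IsElementaryAbelian 2 A}).exists_maximalFor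
    (fun A : Subgroup S => Nat.card A) _
    ⟨⊥, isElementaryAbelian_of_sq fun w hw => by rw [mem_bot.1 hw, one_mul]⟩
  refine ⟨A, hA, fun B hB => ?_⟩
  rcases le_total (Nat.card A) (Nat.card B) with h | h
  · exact hmax hB h
  · exact h

/-- Good subgroups commute. -/
theorem GoodIn.commute {W1 W2 : Subgroup S} (h1 : GoodIn W1) (h2 : GoodIn W2) :
    W1 ≤ centralizer (W2 : Set S) := by
  obtain ⟨A, hA⟩ := exists_maxEA S
  exact fun a ha => mem_centralizer_iff.2 fun b hb =>
    (commute_of_sq' (sq_of_elementary hA.1) (h2.le_maxEA hA hb) (h1.le_maxEA hA ha)).eq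

theorem GoodIn.sup' {W1 W2 : Subgroup S} (h1 : GoodIn W1) (h2 : GoodIn W2) : GoodIn (W1 ⊔ W2) :=
  h1.sup h2 (h1.commute h2)

/-- A good subgroup lies in `J(S)` and is centralized by it. -/
theorem GoodIn.le_center_thompson {W : Subgroup S} (h : GoodIn W) :
    W ≤ Cfsg.thompsonSubgroup 2 S ⊓ centralizer (Cfsg.thompsonSubgroup 2 S : Set S) := by
  obtain ⟨A, hA⟩ := exists_maxEA S
  refine le_inf ((h.le_maxEA hA).trans (le_sSup hA)) fun w hw => mem_centralizer_iff.2 fun y hy => ?_
  have hle : Cfsg.thompsonSubgroup 2 S ≤ centralizer ({w} : Set S) := sSup_le fun B hB b hb =>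
    mem_centralizer_singleton_iff.2
      (commute_of_sq' (sq_of_elementary hB.1) hb (h.le_maxEA hB hw)).eq
  exact mem_centralizer_singleton_iff.1 (hle hy)

/-- Goodness is invariant under isomorphisms. -/
theorem GoodIn.map {R : Type u} [Group R] {W : Subgroup S} (h : GoodIn W) (e : S ≃* R) :
    GoodIn (W.map e.toMonoidHom) := by
  have hinj : Function.Injective e.toMonoidHom := e.injective
  have hcz : ∀ D : Subgroup S, centralizer ((D.map e.toMonoidHom : Subgroup R) : Set R) =
      (centralizer (D : Set S)).map e.toMonoidHom := by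
    intro D
    ext y
    obtain ⟨x, rfl⟩ := e.surjective y
    show e x ∈ _ ↔ e.toMonoidHom x ∈ _
    rw [mem_centralizer_iff, Subgroup.mem_map_iff_mem hinj, mem_centralizer_iff]
    constructor
    · exact fun hy d hd => hinj (by
        simp only [map_mul]; exact hy _ (mem_map_of_mem _ hd))
    · rintro hx _ ⟨d, hd, rfl⟩
      exact (map_mul e _ _).symm.trans ((congrArg e (hx d hd)).trans (map_mul e _ _))
  refine ⟨h.normal.map _ e.surjective, ?_, fun X hX hoff => ?_⟩
  · rintro _ ⟨w, hw, rfl⟩
    rw [← map_mul, h.sq w hw, map_one]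
  set X' := X.comap e.toMonoidHom with hX'
  have hXe : X'.map e.toMonoidHom = X := map_comap_eq_self_of_surjective e.surjective X
  rw [hcz, ← hXe]
  refine map_mono (h.good X' (fun x hx => ?_) ?_)
  · have := hX _ (show e.toMonoidHom x ∈ X from hx)
    rw [← map_mul, hcz, Subgroup.mem_map_iff_mem hinj] at this
    exact this
  · rw [← hXe, hcz, hcz, relIndex_map_map_of_injective _ _ hinj,
      relIndex_map_map_of_injective _ _ hinj] at hoff
    exact hoff

end CfsgLib.FourFree.Stellmacher
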