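import Cfsg.Agent.Lib.FourFree.Stellmacher.Gen
import Cfsg.Agent.Lib.FourFree.Stellmacher.Good
import Cfsg.Agent.Lib.FourFree.TwoFactor

/-!
# Good subgroups inside `O₂` generate good normal subgroups

`IsMember G τ`: `G` is constrained without a section `S₄` and `τ` embeds `S` as a Sylow
`2`-subgroup.  If `W` is good in `S` and `τ W ≤ O₂(G)`, then the normal closure of `τ W` is
elementary abelian and its preimage is good.
-/

set_option autoImplicit false
set_option linter.style.haveILetI false

open Subgroup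
open CfsgLib.Fusion (conjBy mem_conjBy conj_mem_conjBy conjBy_le_iff conjBy_mono)
open CfsgLib.CFun (fixOf IsOff mem_fixOf)

namespace CfsgLib.FourFree.Stellmacher

universe u

variable {S : Type u} [Group S] {G : Type u} [Group G]

/-- `G` is constrained without a section `S₄` and `τ` embeds `S` as a Sylow `2`-subgroup. -/
structure IsMember (G : Type u) [Group G] (τ : S →* G) : Prop where
  inj : Function.Injective τ
  sylow : ∃ P : Sylow 2 G, (P : Subgroup G) = τ.range
  free : ¬ Cfsg.Involves (Equiv.Perm (Fin 4)) G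
  constrained : centralizer (Cfsg.pCore 2 G : Set G) ≤ Cfsg.pCore 2 G

theorem comap_centralizer_map {τ : S →* G} (hτ : Function.Injective τ) (D : Subgroup S) :
    (centralizer (D.map τ : Set G)).comap τ = centralizer (D : Set S) := by
  ext x
  rw [Subgroup.mem_comap, mem_centralizer_iff, mem_centralizer_iff]
  constructor
  · exact fun hx d hd => hτ (by rw [map_mul, map_mul]; exact hx _ (mem_map_of_mem _ hd))
  · rintro hx _ ⟨d, hd, rfl⟩
    rw [← map_mul, ← map_mul, hx d hd]

theorem relIndex_centralizer_map {τ : S →* G} (hτ : Function.Injective τ) (X W : Subgroup S) :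
    (centralizer (X.map τ : Set G)).relIndex (W.map τ) =
      (centralizer (X : Set S)).relIndex W := by
  rw [← relIndex_comap, comap_centralizer_map hτ]

theorem relIndex_centralizer_conjBy' (g : G) (A B : Subgroup G) :
    (centralizer (conjBy g A : Set G)).relIndex (conjBy g B) =
      (centralizer (A : Set G)).relIndex B := by
  rw [← CfsgLib.Fusion.conjBy_centralizer]
  exact relIndex_map_map_of_injective _ _ (MulAut.conj g).injective

/-- Goodness read in the ambient group. -/
theorem GoodIn.ambient {τ : S →* G} {W : Subgroup S} (h : GoodIn W) (hτ : Function.Injective τ)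
    {X : Subgroup G} (hX : X ≤ τ.range) (hsq : ∀ x ∈ X, x * x ∈ centralizer (W.map τ : Set G))
    (hoff : (centralizer (X : Set G)).relIndex (W.map τ) ≤
      (centralizer (W.map τ : Set G)).relIndex X) : X ≤ centralizer (W.map τ : Set G) := by
  obtain ⟨X, rfl⟩ : ∃ X' : Subgroup S, X'.map τ = X := ⟨X.comap τ, map_comap_eq_self hX⟩
  rw [relIndex_centralizer_map hτ, relIndex_centralizer_map hτ] at hoff
  have := h.good X (fun x hx => ?_) hoff
  · rw [← comap_centralizer_map hτ] at this
    exact map_le_iff_le_comap.2 this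
  · rw [← comap_centralizer_map hτ, Subgroup.mem_comap, map_mul]
    exact hsq _ (mem_map_of_mem _ hx)

theorem sq_map {τ : S →* G} {W : Subgroup S} (h : ∀ w ∈ W, w * w = 1) :
    ∀ w ∈ W.map τ, w * w = 1 := by
  rintro _ ⟨w, hw, rfl⟩
  rw [← map_mul, h w hw, map_one]

theorem sq_conjBy {A : Subgroup G} (h : ∀ a ∈ A, a * a = 1) (g : G) :
    ∀ a ∈ conjBy g A, a * a = 1 := by
  rintro _ ⟨a, ha, rfl⟩
  rw [← map_mul, h a ha, map_one]

section

variable [Finite G]

theorem IsMember.pCore_le_range {τ : S →* G} (hm : IsMember G τ) :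
    Cfsg.pCore 2 G ≤ τ.range := by
  haveI : Fact (Nat.Prime 2) := ⟨Nat.prime_two⟩
  obtain ⟨P, hP⟩ := hm.sylow
  exact hP ▸ CfsgLib.PGroup.pCore_le_sylow P

/-- The conjugates of a good subgroup inside `O₂(G)` commute. -/
theorem IsMember.conj_commute {τ : S →* G} (hm : IsMember G τ) {W : Subgroup S} (hW : GoodIn W)
    (hQ : W.map τ ≤ Cfsg.pCore 2 G) (g : G) :
    conjBy g (W.map τ) ≤ centralizer (W.map τ : Set G) := by
  haveI hn : (Cfsg.pCore 2 G).Normal := Subgroup.sSup_normal _ fun N hN => hN.1
  set A := W.map τ with hA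
  have hA2 : ∀ a ∈ A, a * a = 1 := sq_map hW.sq
  have hQc : ∀ k : G, conjBy k A ≤ τ.range := fun k => (conjBy_le_iff.2 fun a ha =>
    hn.conj_mem a (hQ ha) k).trans hm.pCore_le_range
  have step : ∀ k : G, (centralizer (conjBy k A : Set G)).relIndex A ≤
      (centralizer (A : Set G)).relIndex (conjBy k A) → conjBy k A ≤ centralizer (A : Set G) :=
    fun k hk => hW.ambient hm.inj (hQc k)
      (fun x hx => by rw [sq_conjBy hA2 k x hx]; exact one_mem _) hk
  rcases le_total ((centralizer (conjBy g A : Set G)).relIndex A)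
      ((centralizer (A : Set G)).relIndex (conjBy g A)) with h | h
  · exact step g h
  · have h1 : (centralizer (conjBy g⁻¹ A : Set G)).relIndex A =
        (centralizer (A : Set G)).relIndex (conjBy g A) := by
      rw [← relIndex_centralizer_conjBy' g, CfsgLib.Fusion.conjBy_conjBy_inv]
    have h2 : (centralizer (A : Set G)).relIndex (conjBy g⁻¹ A) =
        (centralizer (conjBy g A : Set G)).relIndex A := by
      rw [← relIndex_centralizer_conjBy' g, CfsgLib.Fusion.conjBy_conjBy_inv]
    have h3 := step g⁻¹ (by rw [h1, h2]; exact h)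
    intro x hx
    refine mem_centralizer_iff.2 fun a ha => ?_
    have h4 := mem_centralizer_iff.1 (h3 (conj_mem_conjBy (g := g⁻¹) ha)) _ (mem_conjBy.1 hx)
    have h5 := congrArg (fun y => g * y * g⁻¹) h4
    simp only [inv_inv] at h5
    exact (by simpa [mul_assoc] using h5 : x * a = a * x).symm

/-- The normal closure of a good subgroup inside `O₂(G)` has exponent two. -/
theorem IsMember.sq_normalClosure {τ : S →* G} (hm : IsMember G τ) {W : Subgroup S}
    (hW : GoodIn W) (hQ : W.map τ ≤ Cfsg.pCore 2 G) :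
    ∀ v ∈ normalClosure (W.map τ : Set G), v * v = 1 := by
  set A := W.map τ with hA
  have hA2 : ∀ a ∈ A, a * a = 1 := sq_map hW.sq
  have hsq : ∀ y ∈ Group.conjugatesOfSet (A : Set G), y * y = 1 := fun y hy => by
    obtain ⟨a, ha, hay⟩ := Group.mem_conjugatesOfSet_iff.1 hy
    obtain ⟨k, rfl⟩ := isConj_iff.1 hay
    exact sq_conjBy hA2 k _ (conj_mem_conjBy ha)
  have hc : ∀ y ∈ Group.conjugatesOfSet (A : Set G), ∀ z ∈ Group.conjugatesOfSet (A : Set G),
      y * z = z * y := fun y hy z hz => by
    obtain ⟨a, ha, hay⟩ := Group.mem_conjugatesOfSet_iff.1 hy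
    obtain ⟨k, rfl⟩ := isConj_iff.1 hay
    obtain ⟨b, hb, hbz⟩ := Group.mem_conjugatesOfSet_iff.1 hz
    obtain ⟨l, rfl⟩ := isConj_iff.1 hbz
    have h := mem_centralizer_iff.1 (hm.conj_commute hW hQ (k⁻¹ * l)
      (conj_mem_conjBy (g := k⁻¹ * l) hb)) a ha
    have h5 := congrArg (fun y => k * y * k⁻¹) h
    simpa [mul_assoc, mul_inv_rev] using h5
  intro v hv
  have hcl : normalClosure (A : Set G) = closure (Group.conjugatesOfSet (A : Set G)) := rfl
  have h1 : closure (Group.conjugatesOfSet (A : Set G)) ≤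
      centralizer (Group.conjugatesOfSet (A : Set G)) :=
    (closure_le _).2 fun y hy => mem_centralizer_iff.2 fun z hz => hc z hz y hy
  have h2 : closure (Group.conjugatesOfSet (A : Set G)) ≤
      centralizer (closure (Group.conjugatesOfSet (A : Set G)) : Set G) :=
    (closure_le _).2 fun y hy => mem_centralizer_iff.2 fun z hz =>
      (mem_centralizer_iff.1 (h1 hz) y hy).symm
  rw [hcl] at hv
  induction hv using closure_induction with
  | mem x hx => exact hsq x hx
  | one => exact one_mul 1
  | mul x y hx hy ex ey =>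
    have e : y * x = x * y := mem_centralizer_iff.1 (h2 hx) y hy
    rw [(show Commute y x from e).mul_mul_mul_comm, ex, ey, one_mul]
  | inv x _ ex => rw [← mul_inv_rev, ex, inv_one]

omit [Finite G] in
theorem IsMember.normalClosure_le_pCore {τ : S →* G} (_hm : IsMember G τ) {W : Subgroup S}
    (hQ : W.map τ ≤ Cfsg.pCore 2 G) : normalClosure (W.map τ : Set G) ≤ Cfsg.pCore 2 G := by
  haveI hn : (Cfsg.pCore 2 G).Normal := Subgroup.sSup_normal _ fun N hN => hN.1
  exact normalClosure_le_normal hQ

/-- **Propagation.**  The normal closure of a good subgroup inside `O₂(G)` is good. -/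
theorem IsMember.good_span [Finite S] {τ : S →* G} (hm : IsMember G τ) {W : Subgroup S}
    (hW : GoodIn W) (hQ : W.map τ ≤ Cfsg.pCore 2 G) :
    GoodIn ((normalClosure (W.map τ : Set G)).comap τ) := by
  classical
  haveI : Fact (Nat.Prime 2) := ⟨Nat.prime_two⟩
  set A := W.map τ with hA
  set V := normalClosure (A : Set G) with hV
  haveI hVn : V.Normal := normalClosure_normal
  have hVr : V ≤ τ.range := (hm.normalClosure_le_pCore hQ).trans hm.pCore_le_range
  have hV2 := hm.sq_normalClosure hW hQ
  have hmap : (V.comap τ).map τ = V := map_comap_eq_self hVr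
  refine ⟨inferInstance, fun w hw => hm.inj (by rw [map_mul, map_one]; exact hV2 _ hw),
    fun X hX hoff => ?_⟩
  letI : CommGroup V := { mul_comm := fun a b => Subtype.ext (commute_of_sq' hV2 a.2 b.2).eq }
  have h2 : ∀ x : V, x * x = 1 := fun x => Subtype.ext (hV2 _ x.2)
  have hAV : A ≤ V := subset_normalClosure
  let ρ0 : G →* MulAut V := MulAut.conjNormal
  let π := QuotientGroup.mk' ρ0.ker
  let ρ := QuotientGroup.kerLift ρ0
  have hπ : Function.Surjective π := QuotientGroup.mk'_surjective _
  have hρ : Function.Injective ρ := QuotientGroup.kerLift_injective _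
  have hact : ∀ (g : G) (v : V), ((ρ (π g) v : V) : G) = g * v * g⁻¹ := fun g v => rfl
  have hHG : HG (G ⧸ ρ0.ker) := hg_of_not_involves hm.free π hπ (MonoidHom.id V)
    Function.surjective_id hρ hVn (fun g e => Subtype.ext (hact g e))
    (fun a ha b hb => commute_of_sq' hV2 ha hb) h2
  have hpt : ∀ (D : Subgroup G), D ≤ V → ∀ g : G,
      π g ∈ ptFix ρ (D.subgroupOf V) ↔ g ∈ centralizer (D : Set G) := by
    intro D hD g
    rw [mem_centralizer_iff]
    constructor
    · intro h d hd
      have := congrArg Subtype.val (h ⟨d, hD hd⟩ hd)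
      rw [hact] at this
      exact (mul_inv_eq_iff_eq_mul.1 this).symm
    · intro h d hd
      refine Subtype.ext ?_
      rw [hact]
      exact mul_inv_eq_iff_eq_mul.2 (h _ hd).symm
  have hker : ∀ g : G, π g = 1 ↔ g ∈ centralizer (V : Set G) := fun g => by
    rw [← hpt V le_rfl g]
    exact ⟨fun h => h ▸ one_mem _, fun h => hρ (MulEquiv.ext fun v => by
      rw [map_one, MulAut.one_apply]; exact h v v.2)⟩
  have hfix : ∀ (Y : Subgroup G) (D : Subgroup G), D ≤ V →
      (D.subgroupOf V ⊓ fixOf ρ (Y.map π)).map V.subtype = D ⊓ centralizer (Y : Set G) := by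
    intro Y D hD
    ext x
    constructor
    · rintro ⟨v, hv, rfl⟩
      refine ⟨hv.1, mem_centralizer_iff.2 fun y hy => ?_⟩
      have := congrArg Subtype.val (mem_fixOf.1 hv.2 _ (mem_map_of_mem π hy))
      rw [hact] at this
      exact mul_inv_eq_iff_eq_mul.1 this
    · intro hx
      refine ⟨⟨x, hD hx.1⟩, ⟨hx.1, mem_fixOf.2 ?_⟩, rfl⟩
      rintro _ ⟨y, hy, rfl⟩
      refine Subtype.ext ?_
      rw [hact]
      exact mul_inv_eq_iff_eq_mul.2 (mem_centralizer_iff.1 hx.2 y hy)
  have hcardfix : ∀ (Y : Subgroup G) (D : Subgroup G), D ≤ V →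
      Nat.card (D.subgroupOf V ⊓ fixOf ρ (Y.map π) : Subgroup V) *
        (centralizer (Y : Set G)).relIndex D = Nat.card D := by
    intro Y D hD
    rw [← Subgroup.card_map_of_injective (K := _ ⊓ _) V.subtype_injective, hfix Y D hD,
      ← inf_relIndex_left D, CfsgLib.CFun.card_mul_relIndex' inf_le_left]
  obtain ⟨P, hP⟩ := hm.sylow
  set T : Sylow 2 (G ⧸ ρ0.ker) := P.mapSurjective hπ with hT
  have hgood : Good ρ (T : Subgroup (G ⧸ ρ0.ker)) (A.subgroupOf V) := by
    intro Y hY hY2 hYle
    set Z := (P : Subgroup G) ⊓ Y.comap π with hZ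
    have hZY : Z.map π = Y := by
      refine le_antisymm (map_le_iff_le_comap.2 inf_le_right) fun y hy => ?_
      obtain ⟨x, hx, rfl⟩ := (Sylow.coe_mapSurjective hπ P).le (hY hy)
      exact ⟨x, ⟨hx, hy⟩, rfl⟩
    have hZr : Z ≤ τ.range := hP ▸ inf_le_left
    have key : Z ≤ centralizer (A : Set G) := by
      refine hW.ambient hm.inj hZr (fun x hx => ?_) ?_
      · rw [← hpt A hAV, map_mul]
        exact hY2 _ hx.2
      · have e1 : (ptFix ρ (A.subgroupOf V)).relIndex Y = (centralizer (A : Set G)).relIndex Z := by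
          rw [← hZY, ← relIndex_comap,
            show (ptFix ρ (A.subgroupOf V)).comap π = centralizer (A : Set G) from
              Subgroup.ext fun g => hpt A hAV g]
        rw [e1, ← hZY, ← Subgroup.card_map_of_injective (K := A.subgroupOf V) V.subtype_injective,
          subgroupOf_map_subtype, inf_eq_left.2 hAV] at hYle
        conv_lhs at hYle => rw [← hcardfix Z A hAV]
        rw [mul_comm ((centralizer (A : Set G)).relIndex Z) _] at hYle
        exact Nat.le_of_mul_le_mul_left hYle Nat.card_pos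
    rw [← hZY]
    rintro _ ⟨z, hz, rfl⟩
    exact (hpt A hAV z).2 (key hz)
  have hgen : transl ρ ⊤ (A.subgroupOf V) = ⊤ := by
    have hle : V ≤ (transl ρ ⊤ (A.subgroupOf V)).map V.subtype := by
      refine (closure_le (k := Group.conjugatesOfSet (A : Set G)) _).2 ?_
      intro y hy
      obtain ⟨a, ha, hay⟩ := Group.mem_conjugatesOfSet_iff.1 hy
      obtain ⟨k, rfl⟩ := isConj_iff.1 hay
      exact ⟨ρ (π k) ⟨a, hAV ha⟩, mem_transl (mem_top _) ha, hact k _⟩
    refine (Subgroup.eq_top_iff' _).2 fun v => ?_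
    obtain ⟨w, hw, hwv⟩ := hle v.2
    rwa [← Subtype.ext hwv]
  have hB := good_top hρ hHG h2 T hgen hgood (B := (X.map τ).map π) ?_ ?_ ?_
  · have h : X.map τ ≤ centralizer (V : Set G) := fun x hx =>
      (hker x).1 (mem_bot.1 (hB ▸ mem_map_of_mem π hx))
    rw [← comap_centralizer_map hm.inj, hmap]
    exact map_le_iff_le_comap.1 h
  · rw [hT, Sylow.coe_mapSurjective, hP]
    exact map_mono (map_le_range τ X)
  · rintro _ ⟨_, ⟨x, hx, rfl⟩, rfl⟩
    rw [← map_mul, hker]
    have := hX x hx
    rw [← comap_centralizer_map hm.inj, hmap, Subgroup.mem_comap, map_mul] at this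
    exact this
  · rw [← relIndex_centralizer_map hm.inj, ← relIndex_centralizer_map hm.inj, hmap] at hoff
    unfold IsOff
    have e : Nat.card ((X.map τ).map π) = (centralizer (V : Set G)).relIndex (X.map τ) := by
      rw [← relIndex_ker, show π.ker = centralizer (V : Set G) from Subgroup.ext fun g => hker g]
    have e2 : Nat.card (fixOf ρ ((X.map τ).map π)) *
        (centralizer (X.map τ : Set G)).relIndex V = Nat.card V := by
      have := hcardfix (X.map τ) V le_rfl
      rwa [subgroupOf_self, top_inf_eq] at this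
    rw [e, ← e2, mul_comm (Nat.card _)]
    exact Nat.mul_le_mul_right _ hoff

end

end CfsgLib.FourFree.Stellmacher
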