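import Cfsg.Agent.Lib.FourFree.Stellmacher.Hereditary
import Cfsg.Agent.Lib.PGroup.Subnormalizer

/-!
# The frame of a configuration

In a configuration `HConfig` let `F` be the image in `G` of the largest `HSafe` subgroup of the
Sylow subgroup and `M = N_G(F)`.  Then `F` is weakly closed, every proper subgroup containing
`O₂(G) F` lies in `M`, and `G` is generated by `F`, any conjugate by an element outside `M`, and
`O₂(G)`.
-/

set_option autoImplicit false
set_option linter.style.haveILetI false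

open Subgroup
open CfsgLib.Fusion (conjBy mem_conjBy conj_mem_conjBy conjBy_le_iff conjBy_eq_iff conjBy_mono
  conjBy_conjBy conjBy_inv_conjBy conjBy_conjBy_inv card_conjBy)

namespace CfsgLib.FourFree.Stellmacher

universe u

/-- The largest `HSafe` subgroup of a subgroup, inside the ambient group. -/
def closureOf {G : Type u} [Group G] (k : ℕ) (R : Subgroup G) : Subgroup G :=
  (closureH k R).map R.subtype

section general

variable {G : Type u} [Group G] [Finite G] {k : ℕ}

theorem normalizer_le_normalizer_closureOf (R : Subgroup G) :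
    normalizer (R : Set G) ≤ normalizer (closureOf k R : Set G) := by
  intro g hg
  refine conjBy_eq_iff.1 (CfsgLib.Fusion.conjBy_eq_of_le ?_)
  rintro _ ⟨_, ⟨r, hr, rfl⟩, rfl⟩
  refine ⟨R.normalizerMonoidHom ⟨g, hg⟩ r, ?_, rfl⟩
  exact (characteristic_iff_map_le.1 (closureH_characteristic k)
    (R.normalizerMonoidHom ⟨g, hg⟩)) ⟨r, hr, rfl⟩

theorem le_closureOf {T : Type u} [Group T] {τ : T →* G} (hτ : Function.Injective τ)
    {U : Subgroup T} (hU : HSafe k U) {R : Subgroup G} (hR : R ≤ τ.range) (hUR : U.map τ ≤ R) :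
    U.map τ ≤ closureOf k R := by
  let e : T ≃* τ.range := MonoidHom.ofInjective hτ
  let g : R →* T := e.symm.toMonoidHom.comp (Subgroup.inclusion hR)
  have hg : ∀ r : R, τ (g r) = r := fun r =>
    congrArg Subtype.val (e.apply_symm_apply (Subgroup.inclusion hR r))
  have hginj : Function.Injective g := fun a b h => Subtype.ext (by rw [← hg a, ← hg b, h])
  have hUg : U ≤ g.range := fun x hx =>
    ⟨⟨τ x, hUR (mem_map_of_mem _ hx)⟩, hτ (hg _)⟩
  rintro _ ⟨x, hx, rfl⟩
  refine ⟨⟨τ x, hUR (mem_map_of_mem _ hx)⟩, le_closureH (hU.comap hginj hUg) ?_, rfl⟩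
  show g _ ∈ U
  rwa [show g ⟨τ x, hUR (mem_map_of_mem _ hx)⟩ = x from hτ (hg _)]

theorem closureOf_range {T : Type u} [Group T] [Finite T] {τ : T →* G} (hτ : Function.Injective τ) :
    closureOf k τ.range = (closureH k T).map τ := by
  rw [closureOf, ← closureH_map k (MonoidHom.ofInjective hτ), map_map]
  rfl

end general

section frame

variable {S T G G' : Type u} [Group S] [Group T] [Group G] [Group G'] [Finite T] [Finite G]
  {f : T →* S} {τ : T →* G} {τ' : S →* G'} {U : Subgroup S}

/-- The image of the largest `HSafe` subgroup of the Sylow subgroup. -/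
noncomputable def frameF (τ : T →* G) : Subgroup G := (closureH (Nat.card G) T).map τ

/-- Its normalizer. -/
noncomputable def frameM (τ : T →* G) : Subgroup G := normalizer (frameF τ : Set G)

set_option linter.unusedSectionVars false

variable (hc : HConfig S T G G' f τ τ' U)

include hc

theorem HConfig.span_le_closure : (spanOf τ' U).comap f ≤ closureH (Nat.card G) T :=
  le_closureH (hc.span_safe.comap hc.inj hc.span_range)

theorem HConfig.frameF_not_le : ¬ frameF τ ≤ Cfsg.pCore 2 G := fun h =>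
  hc.not_le ((map_mono hc.span_le_closure).trans h)

theorem HConfig.frameF_le : frameF τ ≤ τ.range := map_le_range τ _

theorem HConfig.range_le_frameM : τ.range ≤ frameM τ :=
  le_normalizer.trans (by
    rw [frameM, frameF, ← closureOf_range hc.member.inj]
    exact normalizer_le_normalizer_closureOf τ.range)

theorem HConfig.range_isPGroup : IsPGroup 2 τ.range := by
  obtain ⟨P, hP⟩ := hc.member.sylow
  exact hP ▸ P.2

theorem HConfig.closureOf_ne_top {R : Subgroup G} (hFR : frameF τ ≤ R) (hR : R ≤ τ.range) :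
    normalizer (closureOf (Nat.card G) R : Set G) ≠ ⊤ := by
  intro e
  refine hc.frameF_not_le ((le_closureOf hc.member.inj (hsafe_closureH _ _) hR hFR).trans ?_)
  exact CfsgLib.PGroup.le_pCore (Subgroup.normalizer_eq_top_iff.1 e)
    (hc.range_isPGroup.to_le ((map_subtype_le _).trans hR))

/-- A proper subgroup normalizes the closure of its Sylow subgroup. -/
theorem HConfig.le_normalizer_closureOf {K R : Subgroup G} (hK : K ≠ ⊤) (hRK : R ≤ K)
    (hQR : Cfsg.pCore 2 G ≤ R) (hR : IsPGroup 2 R) (hi : ¬ 2 ∣ R.relIndex K) :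
    K ≤ normalizer (closureOf (Nat.card G) R : Set G) := by
  haveI : Fact (Nat.Prime 2) := ⟨Nat.prime_two⟩
  have hm : IsMember ↥K (Subgroup.inclusion hRK) := by
    refine ⟨Subgroup.inclusion_injective hRK,
      ⟨(hR.of_equiv (Subgroup.subgroupOfEquivOfLe hRK).symm).toSylow hi, ?_⟩,
      fun h => hc.member.free (CfsgLib.Fusion.involves_of_injective K.subtype K.subtype_injective h),
      CfsgLib.CFun.constrained_of_le hc.member.constrained (hQR.trans hRK)⟩
    show R.subgroupOf K = _
    rw [Subgroup.inclusion_range]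
  have hlt : Nat.card K < Nat.card G :=
    (CfsgLib.Fusion.card_lt_card_of_lt (lt_top_iff_ne_top.2 hK)).trans_eq Subgroup.card_top
  have hn := hc.closed R K (Subgroup.inclusion hRK) hm hlt
  intro x hx
  have h1 := le_normalizer_map (H := (closureH (Nat.card G) R).map (Subgroup.inclusion hRK))
    K.subtype (mem_map_of_mem _ ((Subgroup.normalizer_eq_top_iff.2 hn).ge (mem_top ⟨x, hx⟩)))
  rw [map_map] at h1
  exact h1

theorem HConfig.frame_aux (n : ℕ) : ∀ R : Subgroup G, Cfsg.pCore 2 G ⊔ frameF τ ≤ R → R ≤ τ.range →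
    Nat.card τ.range - Nat.card R = n →
    normalizer (closureOf (Nat.card G) R : Set G) ≤ frameM τ ∧
      ∀ y, conjBy y R ≤ τ.range → y ∈ frameM τ := by
  haveI : Fact (Nat.Prime 2) := ⟨Nat.prime_two⟩
  haveI hQn : (Cfsg.pCore 2 G).Normal := Subgroup.sSup_normal _ fun N hN => hN.1
  induction n using Nat.strong_induction_on with
  | _ n ih =>
  intro R hle hR hn
  set P := τ.range with hP
  have hPp := hc.range_isPGroup
  rcases eq_or_lt_of_le hR with e | hlt
  · subst e
    refine ⟨by rw [closureOf_range hc.member.inj]; exact le_rfl, fun y hy => ?_⟩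
    have hy' : y ∈ normalizer (τ.range : Set G) :=
      conjBy_eq_iff.1 (CfsgLib.Fusion.conjBy_eq_of_le hy)
    have := normalizer_le_normalizer_closureOf (k := Nat.card G) _ hy'
    rwa [closureOf_range hc.member.inj] at this
  have hcard : Nat.card R < Nat.card P := CfsgLib.Fusion.card_lt_card_of_lt hlt
  have larger : ∀ R' : Subgroup G, Cfsg.pCore 2 G ⊔ frameF τ ≤ R' → R' ≤ P →
      Nat.card R < Nat.card R' → normalizer (closureOf (Nat.card G) R' : Set G) ≤ frameM τ ∧
        ∀ y, conjBy y R' ≤ P → y ∈ frameM τ := fun R' h1 h2 h3 =>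
    ih _ (by have := card_le_of_le h2; omega) R' h1 h2 rfl
  set K := normalizer (closureOf (Nat.card G) R : Set G) with hK
  have hKtop : K ≠ ⊤ := hc.closureOf_ne_top (le_sup_right.trans hle) hR
  set R1 := P ⊓ normalizer (R : Set G) with hR1
  have hR1lt : R < R1 := CfsgLib.Subnormalizer.lt_inf_normalizer hPp hlt
  have hR1c : Nat.card R < Nat.card R1 := CfsgLib.Fusion.card_lt_card_of_lt hR1lt
  have hR1K : R1 ≤ K := inf_le_right.trans (normalizer_le_normalizer_closureOf R)
  obtain ⟨T3, h13, h3K, h3p, h3i⟩ :=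
    CfsgLib.Fusion.exists_le_not_dvd_relIndex (hPp.to_le (inf_le_left : R1 ≤ P)) hR1K
  obtain ⟨P₀, hP₀⟩ := hc.member.sylow
  have hPi : ¬ 2 ∣ P.relIndex ⊤ := by rw [relIndex_top_right, hP, ← hP₀]; exact P₀.not_dvd_index
  obtain ⟨x, -, hx⟩ := CfsgLib.Fusion.exists_conj_le_of_not_dvd_relIndex hPp le_top hPi h3p le_top
  have hle1 : Cfsg.pCore 2 G ⊔ frameF τ ≤ R1 := hle.trans hR1lt.le
  have hxM : x ∈ frameM τ := (larger R1 hle1 inf_le_left hR1c).2 x ((conjBy_mono h13).trans hx)
  have hconj : ∀ g ∈ frameM τ, ∀ R' : Subgroup G, Cfsg.pCore 2 G ⊔ frameF τ ≤ R' →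
      Cfsg.pCore 2 G ⊔ frameF τ ≤ conjBy g R' := fun g hg R' h => by
    refine le_trans (le_of_eq ?_) (conjBy_mono (g := g) h)
    rw [conjBy, Subgroup.map_sup]
    exact congrArg₂ (· ⊔ ·) (conjBy_eq_iff.2 (by rw [normalizer_eq_top]; exact mem_top g)).symm
      (conjBy_eq_iff.2 hg).symm
  have hKM : K ≤ frameM τ := by
    have hK'top : conjBy x K ≠ ⊤ := fun e => hKtop (eq_top_of_card_eq K (by
      rw [← card_conjBy x K, e, Subgroup.card_top]))
    have h1 := hc.le_normalizer_closureOf (K := conjBy x K) (R := conjBy x T3) hK'top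
      (conjBy_mono h3K) (le_sup_left.trans (hconj x hxM T3 (hle1.trans h13))) (h3p.map _)
      (CfsgLib.Fusion.not_dvd_relIndex_conjBy x h3i)
    have h2 := h1.trans (larger (conjBy x T3) (hconj x hxM T3 (hle1.trans h13)) hx
      (by rw [card_conjBy]; exact hR1c.trans_le (card_le_of_le h13))).1
    intro k hk
    have := mul_mem (mul_mem (inv_mem hxM) (h2 (conj_mem_conjBy (g := x) hk))) hxM
    simpa [mul_assoc] using this
  refine ⟨hKM, fun y hy => ?_⟩
  set R1' := P ⊓ normalizer (conjBy y R : Set G) with hR1'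
  have hylt : conjBy y R < P := lt_of_le_of_ne hy fun e => by
    have := card_conjBy y R
    rw [e] at this
    omega
  have hR1'lt : conjBy y R < R1' := CfsgLib.Subnormalizer.lt_inf_normalizer hPp hylt
  have hback : conjBy y⁻¹ R1' ≤ K := by
    refine le_trans (conjBy_mono inf_le_right) ?_
    rw [CfsgLib.Fusion.conjBy_normalizer, conjBy_inv_conjBy]
    exact normalizer_le_normalizer_closureOf R
  obtain ⟨z, hz, hzle⟩ := CfsgLib.Fusion.exists_conj_le_of_not_dvd_relIndex h3p h3K h3i
    ((hPp.to_le (inf_le_left : R1' ≤ P)).map _) hback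
  set w := x * (z * y⁻¹) with hw
  have hwle : conjBy w R1' ≤ P := by
    rw [hw, ← conjBy_conjBy, ← conjBy_conjBy]
    exact (conjBy_mono hzle).trans hx
  have hwR : Cfsg.pCore 2 G ⊔ frameF τ ≤ conjBy w R1' := by
    refine le_trans (hconj _ (mul_mem hxM (hKM hz)) R hle) ?_
    refine le_trans (le_of_eq ?_) (conjBy_mono (g := w) hR1'lt.le)
    rw [conjBy_conjBy, hw]
    congr 1
    group
  have hwM := (larger (conjBy w R1') hwR hwle (by
    rw [card_conjBy]
    exact (card_conjBy y R).symm.trans_lt (CfsgLib.Fusion.card_lt_card_of_lt hR1'lt))).2 w⁻¹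
    (by rw [conjBy_inv_conjBy]; exact inf_le_left)
  have h3 := mul_mem hwM (mul_mem hxM (hKM hz))
  rw [hw] at h3
  simpa [mul_assoc] using h3

theorem HConfig.sup_le_range : Cfsg.pCore 2 G ⊔ frameF τ ≤ τ.range :=
  sup_le hc.member.pCore_le_range hc.frameF_le

/-- `F` is weakly closed. -/
theorem HConfig.mem_frameM {y : G} (hy : conjBy y (frameF τ) ≤ τ.range) : y ∈ frameM τ := by
  haveI hQn : (Cfsg.pCore 2 G).Normal := Subgroup.sSup_normal _ fun N hN => hN.1
  refine (hc.frame_aux _ _ le_rfl hc.sup_le_range rfl).2 y ?_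
  rw [conjBy, Subgroup.map_sup]
  exact sup_le ((conjBy_le_iff.2 fun q hq => hQn.conj_mem q hq y).trans hc.member.pCore_le_range) hy

/-- Every proper subgroup containing `O₂(G) F` lies in `M`. -/
theorem HConfig.le_frameM {K : Subgroup G} (hK : K ≠ ⊤)
    (hle : Cfsg.pCore 2 G ⊔ frameF τ ≤ K) : K ≤ frameM τ := by
  haveI : Fact (Nat.Prime 2) := ⟨Nat.prime_two⟩
  haveI hQn : (Cfsg.pCore 2 G).Normal := Subgroup.sSup_normal _ fun N hN => hN.1
  obtain ⟨T3, hR3, h3K, h3p, h3i⟩ := CfsgLib.Fusion.exists_le_not_dvd_relIndex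
    (hc.range_isPGroup.to_le hc.sup_le_range) hle
  obtain ⟨P₀, hP₀⟩ := hc.member.sylow
  obtain ⟨x, -, hx⟩ := CfsgLib.Fusion.exists_conj_le_of_not_dvd_relIndex hc.range_isPGroup le_top
    (by rw [relIndex_top_right, ← hP₀]; exact P₀.not_dvd_index) h3p le_top
  have hxM : x ∈ frameM τ := hc.mem_frameM ((conjBy_mono (le_sup_right.trans hR3)).trans hx)
  have hle' : Cfsg.pCore 2 G ⊔ frameF τ ≤ conjBy x T3 := by
    refine le_trans (le_of_eq ?_) (conjBy_mono (g := x) hR3)
    rw [conjBy, Subgroup.map_sup]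
    exact congrArg₂ (· ⊔ ·) (conjBy_eq_iff.2 (by rw [normalizer_eq_top]; exact mem_top x)).symm
      (conjBy_eq_iff.2 hxM).symm
  have h1 := (hc.le_normalizer_closureOf (K := conjBy x K) (R := conjBy x T3)
    (fun e => hK (eq_top_of_card_eq K (by rw [← card_conjBy x K, e, Subgroup.card_top])))
    (conjBy_mono h3K) (le_sup_left.trans hle') (h3p.map _)
    (CfsgLib.Fusion.not_dvd_relIndex_conjBy x h3i)).trans (hc.frame_aux _ _ hle' hx rfl).1
  intro k hk
  have := mul_mem (mul_mem (inv_mem hxM) (h1 (conj_mem_conjBy (g := x) hk))) hxM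
  simpa [mul_assoc] using this

theorem HConfig.frameM_ne_top : frameM τ ≠ ⊤ := fun e => hc.frameF_not_le
  (CfsgLib.PGroup.le_pCore (Subgroup.normalizer_eq_top_iff.1 e)
    (hc.range_isPGroup.to_le hc.frameF_le))

theorem HConfig.isMinimal : IsMinimal τ :=
  ⟨fun hn => hc.frameF_not_le (hc.frameF_le.trans
    (CfsgLib.PGroup.le_pCore hn hc.range_isPGroup)),
    frameM τ, hc.frameM_ne_top, hc.range_le_frameM,
    fun _ hH hne => hc.le_frameM hne (hc.sup_le_range.trans hH)⟩

/-- `F`, a conjugate of it by an element outside `M`, and `O₂(G)` generate `G`. -/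
theorem HConfig.sup_conj_eq_top {h : G} (hh : h ∉ frameM τ) :
    Cfsg.pCore 2 G ⊔ frameF τ ⊔ conjBy h (frameF τ) = ⊤ := by
  haveI : Fact (Nat.Prime 2) := ⟨Nat.prime_two⟩
  by_contra hne
  have hle := le_sup_right.trans (hc.le_frameM hne le_sup_left)
  obtain ⟨P₀, hP₀⟩ := hc.member.sylow
  obtain ⟨m, hm, hmle⟩ := CfsgLib.Fusion.exists_conj_le_of_not_dvd_relIndex hc.range_isPGroup
    hc.range_le_frameM
    (fun hd => P₀.not_dvd_index (by rw [hP₀]; exact hd.trans (relIndex_dvd_index_of_le hc.range_le_frameM)))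
    ((hc.range_isPGroup.to_le hc.frameF_le).map _) hle
  rw [conjBy_conjBy] at hmle
  exact hh (by simpa using mul_mem (inv_mem hm) (hc.mem_frameM hmle))

/-- `F` is good in the Sylow subgroup. -/
theorem HConfig.frame_good : GoodIn (closureH (Nat.card G) T) := (hsafe_closureH _ _).good

/-- `U` is normal in `G` and centralized by `O²(G)`. -/
theorem HConfig.normal_residual [Finite S] : ((U.comap f).map τ).Normal ∧
    Cfsg.pResidual 2 G ≤ centralizer ((U.comap f).map τ : Set G) := by
  have hUr : U ≤ f.range := (le_spanOf τ' U).trans hc.span_range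
  exact hc.member.normal_of_good hc.isMinimal (hc.span_good.comap hc.inj hc.span_range) hc.not_le
    (hc.safe.good.comap hc.inj hUr)
    (hc.safe.le_core T f hc.inj hUr G τ hc.member (Nat.lt_succ_self _))

end frame

end CfsgLib.FourFree.Stellmacher
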