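import Cfsg.Agent.Lib.FourFree.Stellmacher.Closure

/-!
# Hereditary safety

`HSafe k U`: `U` is good and lies in `O₂(G)` for every member `G` of order `< k` whose Sylow
`2`-subgroup is embedded in `S` over `U`.  Induction on `k` shows that spans of `HSafe` subgroups
are `HSafe` unless there is a configuration `HConfig`, in which all smaller members normalize the
largest `HSafe` subgroup.
-/

set_option autoImplicit false
set_option linter.style.haveILetI false

open Subgroup

namespace CfsgLib.FourFree.Stellmacher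

universe u

variable {S : Type u} [Group S]

theorem GoodIn.comap {R : Type u} [Group R] {U : Subgroup S} (h : GoodIn U) {f : R →* S}
    (hf : Function.Injective f) (hle : U ≤ f.range) : GoodIn (U.comap f) := by
  haveI := h.normal
  have hmap : (U.comap f).map f = U := map_comap_eq_self hle
  refine ⟨inferInstance, fun w hw => hf (by rw [map_mul, map_one]; exact h.sq _ hw),
    fun X hX hoff => ?_⟩
  rw [← relIndex_centralizer_map hf, ← relIndex_centralizer_map hf, hmap] at hoff
  have := h.good (X.map f) (by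
    rintro _ ⟨x, hx, rfl⟩
    have h1 := hX x hx
    rw [← comap_centralizer_map hf, hmap, Subgroup.mem_comap, map_mul] at h1
    exact h1) hoff
  rw [← comap_centralizer_map hf, hmap]
  exact map_le_iff_le_comap.1 this

/-- A good subgroup in `O₂` of every member of order `< k` over it. -/
structure HSafe (k : ℕ) (U : Subgroup S) : Prop where
  good : GoodIn U
  le_core : ∀ (R : Type u) [Group R] (f : R →* S), Function.Injective f → U ≤ f.range →
    ∀ (G : Type u) [Group G] [Finite G] (τ : R →* G), IsMember G τ → Nat.card G < k →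
      (U.comap f).map τ ≤ Cfsg.pCore 2 G

theorem HSafe.mono {k m : ℕ} {U : Subgroup S} (h : HSafe m U) (hkm : k ≤ m) : HSafe k U :=
  ⟨h.good, fun R _ f hf hle G _ _ τ hm hk => h.le_core R f hf hle G τ hm (hk.trans_le hkm)⟩

theorem HSafe.le_core_self {k : ℕ} {U : Subgroup S} (h : HSafe k U) {G : Type u} [Group G]
    [Finite G] {τ : S →* G} (hm : IsMember G τ) (hk : Nat.card G < k) :
    U.map τ ≤ Cfsg.pCore 2 G := by
  have := h.le_core S (MonoidHom.id S) Function.injective_id
    (by rw [MonoidHom.range_eq_top.2 Function.surjective_id]; exact le_top) G τ hm hk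
  rwa [comap_id] at this

theorem HSafe.comap {k : ℕ} {U : Subgroup S} (h : HSafe k U) {R : Type u} [Group R] {f : R →* S}
    (hf : Function.Injective f) (hle : U ≤ f.range) : HSafe k (U.comap f) := by
  refine ⟨h.good.comap hf hle, fun R' _ f' hf' hle' G _ _ τ hm hk => ?_⟩
  have hle2 : U ≤ (f.comp f').range := fun u hu => by
    obtain ⟨r, rfl⟩ := hle hu
    obtain ⟨r', rfl⟩ := hle' (show r ∈ U.comap f from hu)
    exact ⟨r', rfl⟩
  have := h.le_core R' (f.comp f') (hf.comp hf') hle2 G τ hm hk
  rwa [← comap_comap] at this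

theorem hsafe_omegaZ (k : ℕ) : HSafe k (omegaZ S) := by
  refine ⟨goodIn_omegaZ, fun R _ f hf _ G _ _ τ hm _ => ?_⟩
  rintro _ ⟨z, hz, rfl⟩
  refine hm.constrained (mem_centralizer_iff.2 fun x hx => ?_)
  obtain ⟨r, rfl⟩ := hm.pCore_le_range hx
  rw [← map_mul, ← map_mul]
  exact congrArg τ (hf (by
    rw [map_mul, map_mul]; exact Subgroup.mem_center_iff.1 (show f z ∈ omegaZ S from hz).1 (f r)))

/-- The largest `HSafe k` subgroup. -/
def closureH (k : ℕ) (S : Type u) [Group S] : Subgroup S := sSup {U : Subgroup S | HSafe k U}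

theorem le_closureH {k : ℕ} {U : Subgroup S} (h : HSafe k U) : U ≤ closureH k S := le_sSup h

variable [Finite S]

theorem HSafe.sup {k : ℕ} {U V : Subgroup S} (hU : HSafe k U) (hV : HSafe k V) :
    HSafe k (U ⊔ V) := by
  refine ⟨hU.good.sup' hV.good, fun R _ f hf hle G _ _ τ hm hk => ?_⟩
  have e : (U ⊔ V).comap f = U.comap f ⊔ V.comap f := by
    refine map_injective hf ?_
    rw [Subgroup.map_sup, map_comap_eq_self hle, map_comap_eq_self (le_sup_left.trans hle),
      map_comap_eq_self (le_sup_right.trans hle)]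
  rw [e, Subgroup.map_sup]
  exact sup_le (hU.le_core R f hf (le_sup_left.trans hle) G τ hm hk)
    (hV.le_core R f hf (le_sup_right.trans hle) G τ hm hk)

theorem hsafe_closureH (k : ℕ) (S : Type u) [Group S] [Finite S] : HSafe k (closureH k S) := by
  obtain ⟨M, hM, hmax⟩ := (Set.toFinite {U : Subgroup S | HSafe k U}).exists_maximal
    ⟨_, hsafe_omegaZ k⟩
  have e : closureH k S = M := le_antisymm
    (sSup_le fun W hW => le_sup_right.trans (hmax (hM.sup hW) le_sup_left)) (le_sSup hM)
  exact e ▸ hM

theorem closureH_map {R : Type u} [Group R] [Finite R] (k : ℕ) (e : S ≃* R) :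
    (closureH k S).map e.toMonoidHom = closureH k R := by
  have key : ∀ {A B : Type u} [Group A] [Group B] [Finite A] [Finite B] (e : A ≃* B),
      (closureH k A).map e.toMonoidHom ≤ closureH k B := fun {A B} _ _ _ _ e => by
    refine le_closureH ?_
    rw [show ∀ K : Subgroup A, K.map e.toMonoidHom = K.comap e.symm.toMonoidHom from fun K =>
      Subgroup.map_equiv_eq_comap_symm e K]
    exact (hsafe_closureH k A).comap e.symm.injective
      (by rw [MonoidHom.range_eq_top.2 e.symm.surjective]; exact le_top)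
  refine le_antisymm (key e) fun x hx => ?_
  exact ⟨e.symm x, key e.symm ⟨x, hx, rfl⟩, e.apply_symm_apply x⟩

theorem closureH_characteristic (k : ℕ) : (closureH k S).Characteristic :=
  characteristic_iff_map_eq.2 fun φ => closureH_map k φ

/-- The configuration: a least member `G`, with Sylow subgroup `T` embedded in `S`, in which the
span `W` of the `HSafe` subgroup `U` under `G'` is not in `O₂`.  All smaller members normalize the
largest `HSafe` subgroup of their Sylow subgroups; `G'` is least as well. -/
structure HConfig (S T : Type u) [Group S] [Group T] (G G' : Type u) [Group G] [Group G']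
    (f : T →* S) (τ : T →* G) (τ' : S →* G') (U : Subgroup S) : Prop where
  member' : IsMember G' τ'
  member : IsMember G τ
  inj : Function.Injective f
  span_range : spanOf τ' U ≤ f.range
  safe : HSafe (Nat.card G + 1) U
  span_good : GoodIn (spanOf τ' U)
  span_le : (spanOf τ' U).map τ' ≤ Cfsg.pCore 2 G'
  span_safe : HSafe (Nat.card G) (spanOf τ' U)
  closed : ∀ (R : Type u) [Group R] [Finite R] (Y : Type u) [Group Y] [Finite Y] (σ : R →* Y),
    IsMember Y σ → Nat.card Y < Nat.card G → ((closureH (Nat.card G) R).map σ).Normal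
  not_le : ¬ ((spanOf τ' U).comap f).map τ ≤ Cfsg.pCore 2 G
  least' : ∃ m, Nat.card G < m ∧ Nat.card G' < m ∧ HSafe m U ∧
    ∀ (R : Type u) [Group R] [Finite R] (Y : Type u) [Group Y] [Finite Y] (σ : R →* Y),
      IsMember Y σ → Nat.card Y < Nat.card G' → ∀ V : Subgroup R, HSafe m V →
        HSafe m (spanOf σ V)

/-- There is no configuration. -/
def NoHConfig : Prop :=
  ∀ (S T G G' : Type u) [Group S] [Group T] [Group G] [Group G'] [Finite S] [Finite T] [Finite G]
    [Finite G'] (f : T →* S) (τ : T →* G) (τ' : S →* G') (U : Subgroup S),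
    HConfig S T G G' f τ τ' U → False

omit [Finite S] in
theorem le_spanOf {G : Type u} [Group G] (τ : S →* G) (U : Subgroup S) : U ≤ spanOf τ U :=
  fun u hu => subset_normalClosure (mem_map_of_mem τ hu)

/-- A closure which contains the span is normal. -/
theorem normal_of_span_le {G : Type u} [Group G] [Finite G] {τ : S →* G} (hm : IsMember G τ)
    {U : Subgroup S} (hQ : U.map τ ≤ Cfsg.pCore 2 G) (hle : spanOf τ U ≤ U) :
    (U.map τ).Normal := by
  have hVr : normalClosure (U.map τ : Set G) ≤ τ.range :=
    (hm.normalClosure_le_pCore hQ).trans hm.pCore_le_range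
  have e : normalClosure (U.map τ : Set G) = U.map τ :=
    le_antisymm (le_trans (le_of_eq (map_comap_eq_self hVr).symm) (map_mono hle))
      subset_normalClosure
  rw [← e]
  exact normalClosure_normal

theorem hsafe_span_aux (hno : NoHConfig.{u}) (m : ℕ) : ∀ (S : Type u) [Group S] [Finite S]
    (U : Subgroup S) (G' : Type u) [Group G'] [Finite G'] (τ' : S →* G'), IsMember G' τ' →
      Nat.card G' < m → HSafe m U → HSafe m (spanOf τ' U) := by
  classical
  induction m using Nat.strong_induction_on with
  | _ m ih =>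
  suffices key : ∀ (n : ℕ) (S : Type u) [Group S] [Finite S] (U : Subgroup S) (G' : Type u)
      [Group G'] [Finite G'] (τ' : S →* G'), Nat.card G' = n → IsMember G' τ' →
      Nat.card G' < m → HSafe m U → HSafe m (spanOf τ' U) from
    fun S _ _ U G' _ _ τ' h1 h2 h3 => key _ S U G' τ' rfl h1 h2 h3
  intro n
  induction n using Nat.strong_induction_on with
  | _ n ihn =>
  intro S _ _ U G' _ _ τ' hn' hm' hlt hU
  have hQ' := hU.le_core_self hm' hlt
  have hVr : normalClosure (U.map τ' : Set G') ≤ τ'.range :=
    (hm'.normalClosure_le_pCore hQ').trans hm'.pCore_le_range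
  set W := spanOf τ' U with hW
  have hWg : GoodIn W := hm'.good_span hU.good hQ'
  refine ⟨hWg, ?_⟩
  let Fails : ℕ → Prop := fun k => ∃ (R : Type u) (_ : Group R) (f : R →* S) (G : Type u)
    (_ : Group G) (_ : Finite G) (τ : R →* G), Function.Injective f ∧ W ≤ f.range ∧ IsMember G τ ∧
      Nat.card G = k ∧ k < m ∧ ¬ (W.comap f).map τ ≤ Cfsg.pCore 2 G
  by_contra hne
  push Not at hne
  obtain ⟨R₀, i₁, f₀, hf₀, hle₀, G₀, i₂, i₃, τ₀, hm₀, hk₀, hnot₀⟩ := hne
  have hex : ∃ k, Fails k := ⟨_, R₀, i₁, f₀, G₀, i₂, i₃, τ₀, hf₀, hle₀, hm₀, rfl, hk₀, hnot₀⟩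
  obtain ⟨R, _, f, G, _, _, τ, hf, hle, hm, hk, hkm, hnot⟩ := Nat.find_spec hex
  haveI : Finite R := Finite.of_injective f hf
  have hWsafe : HSafe (Nat.card G) W := ⟨hWg, fun R' _ f' hf' hle' G'' _ _ τ'' hm'' hlt'' => by
    by_contra h
    refine Nat.find_min hex (hk ▸ hlt'') ⟨R', inferInstance, f', G'', inferInstance, inferInstance,
      τ'', hf', hle', hm'', rfl, ?_, h⟩
    exact (hk ▸ hlt'' : Nat.card G'' < _).trans hkm⟩
  refine hno S R G G' f τ τ' U ⟨hm', hm, hf, hle, hU.mono (by omega), hWg, ?_, hWsafe,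
    fun R' _ _ Y _ _ σ hY hlY => ?_, hnot,
    ⟨m, hk ▸ hkm, hlt, hU, fun R' _ _ Y _ _ σ hY hlY V hV =>
      ihn _ (hn' ▸ hlY) R' V Y σ rfl hY (hlY.trans hlt) hV⟩⟩
  · exact (le_of_eq (map_comap_eq_self hVr)).trans (hm'.normalClosure_le_pCore hQ')
  · have hs := hsafe_closureH (Nat.card G) R'
    exact normal_of_span_le hY (hs.le_core_self hY hlY)
      (le_closureH (ih (Nat.card G) (by omega) R' _ Y σ hY hlY hs))

/-- Without configurations, spans of `HSafe` subgroups are `HSafe`. -/
theorem hsafe_span (hno : NoHConfig.{u}) {k m : ℕ} (hkm : k ≤ m) {U : Subgroup S}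
    (hU : HSafe m U) {G' : Type u} [Group G'] [Finite G'] {τ' : S →* G'} (hm' : IsMember G' τ')
    (hlt : Nat.card G' < m) : HSafe k (spanOf τ' U) :=
  (hsafe_span_aux hno m S U G' τ' hm' hlt hU).mono hkm

/-- The subgroup generated by the subgroups which are `HSafe` at every level. -/
def closureS (S : Type u) [Group S] : Subgroup S := sSup {U : Subgroup S | ∀ k, HSafe k U}

theorem hsafe_closureS (S : Type u) [Group S] [Finite S] (k : ℕ) : HSafe k (closureS S) := by
  obtain ⟨M, hM, hmax⟩ := (Set.toFinite {U : Subgroup S | ∀ k, HSafe k U}).exists_maximal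
    ⟨_, fun k => hsafe_omegaZ k⟩
  have e : closureS S = M := le_antisymm
    (sSup_le fun W hW => le_sup_right.trans (hmax (fun k => (hM k).sup (hW k)) le_sup_left))
    (le_sSup hM)
  exact e ▸ hM k

theorem omegaZ_le_closureS : omegaZ S ≤ closureS S := le_sSup fun k => hsafe_omegaZ k

theorem closureS_ne_bot [Nontrivial S] (hS : IsPGroup 2 S) : closureS S ≠ ⊥ := by
  haveI : Fact (Nat.Prime 2) := ⟨Nat.prime_two⟩
  haveI := hS.center_nontrivial
  intro h
  obtain ⟨k, hk⟩ := (hS.to_subgroup (center S)).exists_card_eq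
  have h1 : 1 < Nat.card (center S) := Finite.one_lt_card
  rcases k with - | k
  · simp [hk] at h1
  obtain ⟨z, hz⟩ := exists_prime_orderOf_dvd_card' (G := center S) 2
    (hk ▸ dvd_pow_self 2 (Nat.succ_ne_zero k))
  have hzz : (z : S) ∈ omegaZ S := ⟨z.2, by
    have e : z ^ 2 = 1 := hz ▸ pow_orderOf_eq_one z
    rw [← pow_two]; exact congrArg Subtype.val e⟩
  have h0 := omegaZ_le_closureS hzz
  rw [h, mem_bot] at h0
  rw [show z = 1 from Subtype.ext h0, orderOf_one] at hz
  omega

theorem closureS_map {R : Type u} [Group R] [Finite R] (e : S ≃* R) :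
    (closureS S).map e.toMonoidHom = closureS R := by
  have key : ∀ {A B : Type u} [Group A] [Group B] [Finite A] [Finite B] (e : A ≃* B),
      (closureS A).map e.toMonoidHom ≤ closureS B := fun {A B} _ _ _ _ e => by
    refine le_sSup fun k => ?_
    rw [show ∀ K : Subgroup A, K.map e.toMonoidHom = K.comap e.symm.toMonoidHom from fun K =>
      Subgroup.map_equiv_eq_comap_symm e K]
    exact (hsafe_closureS A k).comap e.symm.injective
      (by rw [MonoidHom.range_eq_top.2 e.symm.surjective]; exact le_top)
  refine le_antisymm (key e) fun x hx => ?_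
  exact ⟨e.symm x, key e.symm ⟨x, hx, rfl⟩, e.apply_symm_apply x⟩

theorem closureS_characteristic : (closureS S).Characteristic :=
  characteristic_iff_map_eq.2 fun φ => closureS_map φ

/-- Without configurations the closure is normal in every member. -/
theorem closureS_normal (hno : NoHConfig.{u}) {G : Type u} [Group G] [Finite G] {τ : S →* G}
    (hm : IsMember G τ) : ((closureS S).map τ).Normal :=
  normal_of_span_le hm
    ((hsafe_closureS S (Nat.card G + 1)).le_core_self hm (Nat.lt_succ_self _))
    (le_sSup fun k => hsafe_span hno (le_max_left k (Nat.card G + 1))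
      (hsafe_closureS S (max k (Nat.card G + 1))) hm (by omega))

end CfsgLib.FourFree.Stellmacher
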