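import Cfsg.Agent.Lib.FourFree.Stellmacher.Hereditary
import Cfsg.Agent.Lib.FourFree.Fusion
import Cfsg.Prelude.Def_EvenType

/-!
# The characteristic subgroup, given that there is no configuration

The statements of the existence of a characteristic subgroup normal in every constrained group
without a section `S₄`, and of a characteristic subgroup controlling strong fusion, from the
hypothesis `NoHConfig`.
-/

set_option autoImplicit false
set_option linter.style.haveILetI false

open Subgroup

namespace CfsgLib.FourFree.Stellmacher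

universe u

/-- A nontrivial characteristic subgroup normal in every member. -/
theorem exists_characteristic {S : Type u} [Group S] [Finite S] [Nontrivial S]
    (hS : IsPGroup 2 S) (hno : NoHConfig.{u}) :
    ∃ W : Subgroup S, W ≠ ⊥ ∧ W.Characteristic ∧ ∀ (G : Type u) [Group G] [Finite G] (τ : S →* G),
      Function.Injective τ → (∃ P : Sylow 2 G, (P : Subgroup G) = τ.range) →
      ¬ Cfsg.Involves (Equiv.Perm (Fin 4)) G →
      centralizer (Cfsg.pCore 2 G : Set G) ≤ Cfsg.pCore 2 G → (W.map τ).Normal :=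
  ⟨closureS S, closureS_ne_bot hS, closureS_characteristic, fun _ _ _ _ h1 h2 h3 h4 =>
    closureS_normal hno ⟨h1, h2, h3, h4⟩⟩

/-- The largest safe subgroup, as a functor. -/
def closureFun (Q : Type u) [Group Q] : Subgroup Q := closureS Q

theorem isCharPFunctor_closure : Cfsg.IsCharPFunctor.{u} 2 closureFun := by
  refine ⟨fun Q _ _ hQ _ => closureS_ne_bot hQ, fun Q R _ _ _ _ φ => ?_⟩
  haveI : Finite R := Finite.of_equiv Q φ.toEquiv
  exact closureS_map φ

/-- The largest safe subgroup controls strong fusion in a group without a section `S₄`. -/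
theorem closureS_controls {G : Type u} [Group G] [Finite G]
    (hno : NoHConfig.{u})
    (hfree : ¬ Cfsg.Involves (Equiv.Perm (Fin 4)) G) (S : Sylow 2 G) {A : Set G}
    (hA : A ⊆ (S : Subgroup G)) :
    Cfsg.ControlsStrongFusionOf
      (normalizer (((closureS ↥(S : Subgroup G)).map (S : Subgroup G).subtype : Subgroup G) : Set G))
      (S : Subgroup G) A := by
  haveI : Fact (Nat.Prime 2) := ⟨Nat.prime_two⟩
  have h𝓦 : ∀ W ∈ ({closureFun} : Set (∀ (Q : Type u) [Group Q], Subgroup Q)),
      Cfsg.IsCharPFunctor.{u} 2 W := by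
    rintro W rfl
    exact isCharPFunctor_closure
  have hctl : CfsgLib.CFun.FamCtrl 2 ({closureFun} : Set (∀ (Q : Type u) [Group Q], Subgroup Q))
      G := by
    refine CfsgLib.CFun.famCtrl_of_constrained h𝓦 _ G rfl fun X _ _ hX hcon => ?_
    obtain ⟨K, R, hR, ⟨e⟩⟩ := hX
    haveI := hR
    obtain ⟨T⟩ := (inferInstance : Nonempty (Sylow 2 X))
    refine CfsgLib.CFun.famCtrl_of_strongAtF T fun B g hB hgB => ?_
    have hfX : ¬ Cfsg.Involves (Equiv.Perm (Fin 4)) X := fun h => hfree
      (CfsgLib.Fusion.involves_of_injective K.subtype K.subtype_injective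
        (CfsgLib.Fusion.involves_of_surjective (QuotientGroup.mk' (R.subgroupOf K))
          (QuotientGroup.mk'_surjective _)
          (CfsgLib.Fusion.involves_of_injective e.symm.toMonoidHom e.symm.injective h)))
    have hn := closureS_normal (S := ↥(T : Subgroup X)) hno
      (τ := (T : Subgroup X).subtype)
      ⟨Subtype.val_injective, ⟨T, (Subgroup.range_subtype _).symm⟩, hfX, hcon⟩
    refine CfsgLib.CFun.reach_step (W := Cfsg.inducedFunctor closureFun)
      (F := CfsgLib.CFun.indFam X {closureFun}) ⟨closureFun, rfl, rfl⟩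
      ⟨mem_top g, ?_⟩ hB hgB
    show g ∈ normalizer (((closureS ↥(T : Subgroup X)).map (T : Subgroup X).subtype : Subgroup X) : Set X)
    rw [Subgroup.normalizer_eq_top_iff.2 hn]
    exact mem_top g
  refine ⟨hA, fun g hg => ?_⟩
  obtain ⟨c, hc, hce⟩ := CfsgLib.CFun.strongAtF_of_famCtrl h𝓦 hctl S A g hA
    fun a ha => hg ⟨a, ha, rfl⟩
  refine ⟨c, ?_, fun a ha => (hce a ha).symm⟩
  clear hce
  induction hc with
  | one _ => exact one_mem _
  | step c W w _ hW hw _ ih =>
    obtain ⟨W', hW', rfl⟩ := hW
    rw [Set.mem_singleton_iff] at hW'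
    subst hW'
    exact mul_mem hw.2 ih

/-- A characteristic subgroup between `Ω₁ Z(S)` and `Ω₁ Z(J(S))` controlling strong fusion. -/
theorem exists_controlling {G : Type u} [Group G] [Finite G]
    (hno : NoHConfig.{u})
    (hfree : ¬ Cfsg.Involves (Equiv.Perm (Fin 4)) G) (S : Sylow 2 G) :
    ∃ W : Subgroup ↥(S : Subgroup G), W.Characteristic ∧
      Cfsg.omegaOne 2 ((Subgroup.center ↥(S : Subgroup G)).map (S : Subgroup G).subtype) ≤
        W.map (S : Subgroup G).subtype ∧
      W.map (S : Subgroup G).subtype ≤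
        Cfsg.omegaOne 2 (Cfsg.centerThompsonOf 2 (S : Subgroup G)) ∧
      ∀ A : Set G, A ⊆ (S : Subgroup G) → Cfsg.ControlsStrongFusionOf
        (Subgroup.normalizer ((W.map (S : Subgroup G).subtype : Subgroup G) : Set G))
        (S : Subgroup G) A := by
  refine ⟨closureS _, closureS_characteristic, ?_, ?_, fun A hA =>
    closureS_controls hno hfree S hA⟩
  · refine (closure_le _).2 ?_
    rintro _ ⟨⟨z, hz, rfl⟩, hz2⟩
    refine mem_map_of_mem _ (omegaZ_le_closureS ⟨hz, (S : Subgroup G).subtype_injective ?_⟩)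
    rw [map_mul, map_one, ← pow_two]
    exact hz2
  · rintro _ ⟨w, hw, rfl⟩
    have hg := (hsafe_closureS ↥(S : Subgroup G) 0).good
    obtain ⟨hJ, hC⟩ := mem_inf.1 (hg.le_center_thompson hw)
    refine subset_closure ⟨⟨⟨w, hJ, rfl⟩, mem_centralizer_iff.2 ?_⟩, ?_⟩
    · rintro _ ⟨y, hy, rfl⟩
      exact (map_mul _ _ _).symm.trans
        ((congrArg (S : Subgroup G).subtype (mem_centralizer_iff.1 hC y hy)).trans (map_mul _ _ _))
    · rw [← map_pow, pow_two, hg.sq w hw, map_one]

end CfsgLib.FourFree.Stellmacher
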