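import Cfsg.Agent.Lib.FourFree.Stellmacher.Family
import Cfsg.Agent.Lib.Fusion.ThompsonComplement
import Cfsg.Agent.Lib.Fusion.Residual

/-!
# Reduction to groups in which the Sylow subgroup lies in a unique maximal subgroup

A characteristic subgroup of `S` which is normal in every member in which `S` is not normal and
lies in a unique maximal subgroup is normal in every member.
-/

set_option autoImplicit false
set_option linter.style.haveILetI false

open Subgroup

namespace CfsgLib.FourFree.Stellmacher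

universe u

variable {S : Type u} [Group S] {G : Type u} [Group G]

/-- `τ S` is not normal and lies in a unique maximal subgroup. -/
def IsMinimal (τ : S →* G) : Prop :=
  ¬ τ.range.Normal ∧ ∃ M : Subgroup G, M ≠ ⊤ ∧ τ.range ≤ M ∧
    ∀ H : Subgroup G, τ.range ≤ H → H ≠ ⊤ → H ≤ M

theorem range_le_normalizer_map (τ : S →* G) (W : Subgroup S) [W.Normal] :
    τ.range ≤ normalizer (W.map τ : Set G) := fun g hg => by
  obtain ⟨s, rfl⟩ := hg
  exact le_normalizer_map τ (mem_map_of_mem _ (Subgroup.normalizer_eq_top (H := W) ▸ mem_top s))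

theorem characteristic_map_equiv {R : Type u} [Group R] (e : S ≃* R) {W : Subgroup S}
    (hW : W.Characteristic) : (W.map e.toMonoidHom).Characteristic := by
  refine characteristic_iff_map_le.2 fun φ => ?_
  rintro _ ⟨_, ⟨w, hw, rfl⟩, rfl⟩
  refine ⟨e.symm (φ (e w)), ?_, e.apply_symm_apply _⟩
  exact characteristic_iff_map_le.1 hW ((e.trans φ).trans e.symm) ⟨w, hw, rfl⟩

theorem normal_map_of_range_normal {τ : S →* G} (hτ : Function.Injective τ)
    (hn : τ.range.Normal) {W : Subgroup S} (hW : W.Characteristic) : (W.map τ).Normal := by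
  haveI := hn
  haveI := characteristic_map_equiv (MonoidHom.ofInjective hτ) hW
  have h := ConjAct.normal_of_characteristic_of_normal
    (K := W.map (MonoidHom.ofInjective hτ).toMonoidHom)
  rwa [map_map] at h

variable [Finite G]

theorem IsMember.codRestrict {τ : S →* G} (hm : IsMember G τ) {H : Subgroup G}
    (hH : τ.range ≤ H) : IsMember ↥H (τ.codRestrict H fun s => hH ⟨s, rfl⟩) := by
  obtain ⟨P, hP⟩ := hm.sylow
  refine ⟨fun a b hab => hm.inj (congrArg Subtype.val hab), ?_, fun hi =>
    hm.free (CfsgLib.Fusion.involves_of_injective H.subtype H.subtype_injective hi),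
    CfsgLib.CFun.constrained_of_le hm.constrained (hm.pCore_le_range.trans hH)⟩
  refine ⟨P.subtype (hP ▸ hH), ?_⟩
  ext x
  rw [Sylow.coe_subtype, Subgroup.mem_subgroupOf, hP]
  constructor
  · rintro ⟨s, hs⟩
    exact ⟨s, Subtype.ext hs⟩
  · rintro ⟨s, rfl⟩
    exact ⟨s, rfl⟩

theorem normal_of_minimal_aux [Finite S] {W : Subgroup S} (hW : W.Characteristic)
    (hmin : ∀ (G : Type u) [Group G] [Finite G] (τ : S →* G), IsMember G τ → IsMinimal τ →
      (W.map τ).Normal) (n : ℕ) : ∀ (G : Type u) [Group G] [Finite G] (τ : S →* G),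
    Nat.card G = n → IsMember G τ → (W.map τ).Normal := by
  induction n using Nat.strong_induction_on with
  | _ n ih =>
  intro G _ _ τ hn hm
  by_cases hr : τ.range.Normal
  · exact normal_map_of_range_normal hm.inj hr hW
  haveI : W.Normal := Subgroup.normal_of_characteristic W
  by_cases hN : normalizer (W.map τ : Set G) = ⊤
  · exact Subgroup.normalizer_eq_top_iff.1 hN
  refine hmin G τ hm ⟨hr, _, hN, range_le_normalizer_map τ W, fun H hH hne => ?_⟩
  have hlt : Nat.card H < n :=
    hn ▸ (CfsgLib.Fusion.card_lt_card_of_lt (lt_top_iff_ne_top.2 hne)).trans_eq Subgroup.card_top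
  have h := ih _ hlt H (τ.codRestrict H fun s => hH ⟨s, rfl⟩) rfl (hm.codRestrict hH)
  intro x hx
  have h1 := le_normalizer_map (H := W.map (τ.codRestrict H fun s => hH ⟨s, rfl⟩)) H.subtype
    (mem_map_of_mem _ ((Subgroup.normalizer_eq_top_iff.2 h).ge (mem_top ⟨x, hx⟩)))
  rw [map_map] at h1
  exact h1

/-- The reduction to minimal members. -/
theorem normal_of_minimal [Finite S] {W : Subgroup S} (hW : W.Characteristic)
    (hmin : ∀ (G : Type u) [Group G] [Finite G] (τ : S →* G), IsMember G τ → IsMinimal τ →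
      (W.map τ).Normal) {τ : S →* G} (hm : IsMember G τ) : (W.map τ).Normal :=
  normal_of_minimal_aux hW hmin _ G τ rfl hm

/-- A normal subgroup of a minimal member meeting `τ S` outside `O₂` contains `O²`. -/
theorem IsMember.sup_range_eq_top {τ : S →* G} (hm : IsMember G τ) (hmin : IsMinimal τ)
    {N : Subgroup G} (hN : N.Normal) (hQ : ¬ τ.range ⊓ N ≤ Cfsg.pCore 2 G) :
    N ⊔ τ.range = ⊤ := by
  haveI : Fact (Nat.Prime 2) := ⟨Nat.prime_two⟩
  haveI := hN
  obtain ⟨P, hP⟩ := hm.sylow
  obtain ⟨-, M, hM, hrM, huniq⟩ := hmin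
  by_contra hne
  have hNM : N ≤ M := le_sup_left.trans (huniq _ le_sup_right hne)
  set S0 := τ.range ⊓ N with hS0
  have hS0n : τ.range ≤ normalizer (S0 : Set G) := by
    intro r hr
    refine CfsgLib.Fusion.conjBy_eq_iff.1 (CfsgLib.Fusion.conjBy_eq_of_le
      (CfsgLib.Fusion.conjBy_le_iff.2 fun x hx => ⟨?_, hN.conj_mem x hx.2 r⟩))
    exact (mul_mem (mul_mem hr hx.1) (inv_mem hr) : r * x * r⁻¹ ∈ τ.range)
  have hS0p : IsPGroup 2 S0 := by rw [hS0, ← hP]; exact P.2.to_le inf_le_left
  by_cases htop : normalizer (S0 : Set G) = ⊤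
  · exact hQ (CfsgLib.PGroup.le_pCore (Subgroup.normalizer_eq_top_iff.1 htop) hS0p)
  refine hM (top_le_iff.1 fun g _ => ?_)
  obtain ⟨c, hc, hcg⟩ := CfsgLib.FourFree.frattini_rel hS0p (inf_le_right : S0 ≤ N) (by
      rw [hS0, ← hP]
      exact CfsgLib.Fusion.not_dvd_relIndex_inf_of_normal P N)
    (L := ⊤) (fun k _ x hx => hN.conj_mem x hx k) (mem_top g)
  have := mul_mem (inv_mem (hNM hc)) (huniq _ hS0n htop hcg)
  simpa using this

omit [Finite G] in
theorem IsMember.residual_le {τ : S →* G} (hm : IsMember G τ) {N : Subgroup G} (hN : N.Normal)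
    (htop : N ⊔ τ.range = ⊤) : Cfsg.pResidual 2 G ≤ N := by
  haveI : Fact (Nat.Prime 2) := ⟨Nat.prime_two⟩
  haveI := hN
  obtain ⟨P, hP⟩ := hm.sylow
  set q := QuotientGroup.mk' N with hq
  have hp : IsPGroup 2 (G ⧸ N) := by
    have h2 : IsPGroup 2 ((P : Subgroup G).map q) := P.2.map q
    have e : (P : Subgroup G).map q = ⊤ := by
      rw [← map_top_of_surjective q (QuotientGroup.mk'_surjective N), ← htop, Subgroup.map_sup,
        hP, (Subgroup.map_eq_bot_iff _).2 (le_of_eq (QuotientGroup.ker_mk' N).symm), bot_sup_eq]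
    rw [e] at h2
    exact h2.of_equiv Subgroup.topEquiv
  refine (closure_le _).2 fun g hg => ?_
  obtain ⟨k, hk⟩ := hp (q g)
  have h1 : orderOf (q g) ∣ 2 ^ k := orderOf_dvd_of_pow_eq_one hk
  have h2 : orderOf (q g) ∣ orderOf g := orderOf_map_dvd q g
  have h3 : q g = 1 := orderOf_eq_one_iff.1
    (Nat.eq_one_of_dvd_coprimes (Nat.Coprime.pow_right k hg) h2 h1)
  exact (QuotientGroup.eq_one_iff g).1 h3

end CfsgLib.FourFree.Stellmacher
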