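import Cfsg.Agent.Lib.FourFree.Config.Pair

/-!
# Single elements fix exactly the half

In a `Setup` in which `B` meets `O₂` trivially, fixes exactly a half `C` and `G` fixes nothing, every
non-trivial element of `B` fixes exactly `C`, and `|B| ^ 2 ≤ |C|`.
-/

set_option autoImplicit false
set_option linter.style.haveILetI false

open Subgroup
open CfsgLib.Fusion (conjBy mem_conjBy conj_mem_conjBy conjBy_le_iff conjBy_conjBy)
open CfsgLib.CFun (delt fixOf mem_fixOf)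

namespace CfsgLib.FourFree

universe u v

variable {G : Type u} {V : Type v} [Group G] [CommGroup V] [Finite G] [Finite V]
  {ρ : G →* MulAut V} {T M B : Subgroup G}

theorem Setup.eq_one_of_mem_inf (hs : Setup ρ T M B) (htriv : ∀ x : V, (∀ g, ρ g x = x) → x = 1)
    {h : G} (hh : h ∉ M) {x : V} (hx : x ∈ fixOf ρ B) (hx' : x ∈ fixOf ρ (conjBy h B)) : x = 1 :=
  htriv x fun g => by
    have : (⊤ : Subgroup G) ≤ ptFix ρ (zpowers x) := (hs.gen h hh).ge.trans
      (sup_le (le_ptFix_iff.2 (zpowers_le.2 hx)) (le_ptFix_iff.2 (zpowers_le.2 hx')))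
    exact this (mem_top g) x (mem_zpowers x)

theorem Setup.sup_fix_eq_top (hs : Setup ρ T M B) (htriv : ∀ x : V, (∀ g, ρ g x = x) → x = 1)
    (hcard : Nat.card V = Nat.card (fixOf ρ B) * Nat.card (fixOf ρ B)) {h : G} (hh : h ∉ M) :
    fixOf ρ B ⊔ fixOf ρ (conjBy h B) = ⊤ := by
  refine eq_top_of_card_eq _ ?_
  have h1 := card_sup_mul_inf (fixOf ρ B) (fixOf ρ (conjBy h B))
  rw [show fixOf ρ B ⊓ fixOf ρ (conjBy h B) = ⊥ from (Subgroup.eq_bot_iff_forall _).2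
    fun x hx => hs.eq_one_of_mem_inf htriv hh hx.1 hx.2, Subgroup.card_bot, mul_one,
    card_fixOf_conjBy] at h1
  rw [h1, hcard]

/-- No conjugate from outside `M` carries a non-trivial element of `B` into `M`. -/
theorem Setup.conj_not_mem_of_inf (hs : Setup ρ T M B)
    (htriv : ∀ x : V, (∀ g, ρ g x = x) → x = 1)
    (hcard : Nat.card V = Nat.card (fixOf ρ B) * Nat.card (fixOf ρ B))
    (hP : B ⊓ Cfsg.pCore 2 G = ⊥) (hV : ∃ x : V, x ≠ 1) {a h : G} (ha : a ∈ B) (ha1 : a ≠ 1)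
    (hh : h ∉ M) : h⁻¹ * a * h ∉ M := by
  haveI : Fact (Nat.Prime 2) := ⟨Nat.prime_two⟩
  intro hm
  obtain ⟨S, hS⟩ := hs.sylow
  have hTp : IsPGroup 2 T := hS ▸ S.2
  have hi : ¬ 2 ∣ T.relIndex M := fun hd =>
    S.not_dvd_index (by rw [hS]; exact hd.trans (relIndex_dvd_index_of_le hs.le_M))
  have hm2 : IsPGroup 2 (zpowers (h⁻¹ * a * h)) := by
    refine IsPGroup.of_card (n := 1) ?_
    rw [Nat.card_zpowers, pow_one]
    refine orderOf_eq_prime ?_ fun e => ha1 ?_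
    · rw [pow_two, show h⁻¹ * a * h * (h⁻¹ * a * h) = h⁻¹ * (a * a) * h by group, hs.sq a ha]
      group
    · rw [show a = h * (h⁻¹ * a * h) * h⁻¹ by group, e]; simp
  obtain ⟨l, hl, hle⟩ := CfsgLib.Fusion.exists_conj_le_of_not_dvd_relIndex hTp hs.le_M hi hm2
    (zpowers_le.2 hm)
  set k₀ := h * l⁻¹ with hk₀
  have hk₀M : k₀ ∉ M := fun hk => hh (by simpa [k₀] using mul_mem hk hl)
  have hat : k₀⁻¹ * a * k₀ ∈ T := by
    have := hle (conj_mem_conjBy (g := l) (mem_zpowers (h⁻¹ * a * h)))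
    simpa [k₀, mul_assoc] using this
  -- a fixed point of the Sylow subgroup
  have hVne : (⊤ : Subgroup V) ≠ ⊥ := by
    obtain ⟨x, hx⟩ := hV
    exact fun e => hx (mem_bot.1 (e ▸ mem_top x))
  obtain ⟨w, -, hw1, hw⟩ := exists_fixed (ρ := ρ) hs.two hTp hVne
    (le_setFix fun _ _ _ _ => mem_top _)
  have hwB : w ∈ fixOf ρ B := mem_fixOf.2 fun b hb => mem_fixOf.1 hw b (hs.le_T hb)
  obtain ⟨k, hk, hka⟩ := hs.exists_conj_not_mem ha fun hp => ha1 (mem_bot.1 (hP ▸ ⟨ha, hp⟩))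
  set z := ρ k₀ w with hz
  obtain ⟨u, hu, v, hv, huv⟩ :=
    Subgroup.mem_sup.1 ((hs.sup_fix_eq_top htriv hcard hk).ge (mem_top z))
  have haz : ρ a z = z := by
    rw [hz, ← MulAut.mul_apply, ← map_mul, show a * k₀ = k₀ * (k₀⁻¹ * a * k₀) by group, map_mul,
      MulAut.mul_apply, mem_fixOf.1 hw _ hat]
  have hav : ρ a v = v := by
    rw [← huv, map_mul, mem_fixOf.1 hu a ha] at haz
    exact mul_left_cancel haz
  have hv1 : v = 1 := by
    refine htriv v fun g => ?_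
    have hgen : conjBy k B ⊔ conjBy a (conjBy k B) = ⊤ := by
      rw [sup_conjBy_conjBy, hs.gen _ hka, conjBy, map_top_of_surjective _ (MulAut.conj k).surjective]
    have : (⊤ : Subgroup G) ≤ ptFix ρ (zpowers v) := by
      refine hgen.ge.trans (sup_le (le_ptFix_iff.2 (zpowers_le.2 hv))
        (le_ptFix_iff.2 (zpowers_le.2 ?_)))
      rw [fixOf_conjBy]
      exact ⟨v, hv, hav⟩
    exact this (mem_top g) v (mem_zpowers v)
  have hzC : z ∈ fixOf ρ B := by rw [← huv, hv1, mul_one]; exact hu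
  have hz' : z ∈ fixOf ρ (conjBy k₀ B) := by rw [fixOf_conjBy]; exact ⟨w, hwB, rfl⟩
  have hz1 := hs.eq_one_of_mem_inf htriv hk₀M hzC hz'
  exact hw1 (by rw [← apply_inv_apply (ρ := ρ) k₀ w, ← hz, hz1, map_one])

/-- A non-trivial element of `B` fixes exactly the half. -/
theorem Setup.fix_single (hs : Setup ρ T M B) (htriv : ∀ x : V, (∀ g, ρ g x = x) → x = 1)
    (hcard : Nat.card V = Nat.card (fixOf ρ B) * Nat.card (fixOf ρ B))
    (hP : B ⊓ Cfsg.pCore 2 G = ⊥) {a : G} (ha : a ∈ B) (ha1 : a ≠ 1) {x : V} (hx : ρ a x = x) :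
    x ∈ fixOf ρ B := by
  rcases eq_or_ne x 1 with e | e
  · exact e ▸ one_mem _
  obtain ⟨k, hk⟩ := hs.exists_not_mem
  obtain ⟨u, hu, v, hv, rfl⟩ :=
    Subgroup.mem_sup.1 ((hs.sup_fix_eq_top htriv hcard hk).ge (mem_top x))
  have hav : ρ a v = v := by
    rw [map_mul, mem_fixOf.1 hu a ha] at hx
    exact mul_left_cancel hx
  have hka := hs.conj_not_mem_of_inf htriv hcard hP ⟨_, e⟩ ha ha1 hk
  have hv1 : v = 1 := by
    refine htriv v fun g => ?_
    have hgen : conjBy k B ⊔ conjBy a (conjBy k B) = ⊤ := by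
      rw [sup_conjBy_conjBy, hs.gen _ hka, conjBy, map_top_of_surjective _ (MulAut.conj k).surjective]
    have : (⊤ : Subgroup G) ≤ ptFix ρ (zpowers v) := by
      refine hgen.ge.trans (sup_le (le_ptFix_iff.2 (zpowers_le.2 hv))
        (le_ptFix_iff.2 (zpowers_le.2 ?_)))
      rw [fixOf_conjBy]
      exact ⟨v, hv, hav⟩
    exact this (mem_top g) v (mem_zpowers v)
  rw [hv1, mul_one]; exact hu

/-- `B` and `M` satisfy the hypotheses of the coset bound. -/
theorem Setup.halves (hs : Setup ρ T M B) (htriv : ∀ x : V, (∀ g, ρ g x = x) → x = 1)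
    (hcard : Nat.card V = Nat.card (fixOf ρ B) * Nat.card (fixOf ρ B))
    (hP : B ⊓ Cfsg.pCore 2 G = ⊥) (hM : B ≤ (Cfsg.pCore 2 M).map M.subtype)
    (hne : fixOf ρ B ≠ ⊥) : Halves ρ B M (fixOf ρ ((Cfsg.pCore 2 M).map M.subtype)) :=
  Halves.of_gen hs.two hs.hg hs.sq
    (fun b hb x => mem_fixOf.2 fun a ha => div_eq_one.1 (hs.quad a ha b hb x))
    (fun _ ha ha1 _ hx => hs.fix_single htriv hcard hP ha ha1 hx) hM hne hs.gen htriv hcard

/-- The square bound. -/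
theorem Halves.sq_le {C₁ : Subgroup V} (hh : Halves ρ B M C₁) (hM : M ≠ ⊤)
    (hne : fixOf ρ B ≠ ⊥) : Nat.card B * Nat.card B ≤ Nat.card (fixOf ρ B) := by
  obtain ⟨g₀, hg₀⟩ : ∃ g, g ∉ M := by
    by_contra h
    push Not at h
    exact hM ((Subgroup.eq_top_iff' M).2 h)
  obtain ⟨x₀, hx₀, hx₁⟩ := (Subgroup.bot_or_exists_ne_one (fixOf ρ B)).resolve_left hne
  refine (hh.sq_card_le hg₀ hx₀ hx₁ Set.univ fun _ _ _ => Set.mem_univ _).trans ?_
  exact Nat.card_le_card_of_injective (fun c => ⟨c.1, c.2.1⟩)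
    fun a b e => Subtype.ext (congrArg Subtype.val e :)

end CfsgLib.FourFree
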