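import Cfsg.Agent.Lib.FourFree.Stellmacher.Frame
import Cfsg.Agent.Lib.FourFree.Stellmacher.PairModule

/-!
# The pair of a configuration

For a conjugate `F^g` of `F` with `g ∉ M` chosen with `⟨F, F^g⟩` least, let `P = F ∩ O₂(G)`,
`P' = F^g ∩ O₂(G)`, `D = P P'` and `Z = C_D(O²(G))`.  Then `D` and `Z` are normal in `G`,
`[O₂(G), ⟨F, F^g⟩] ≤ D`, `[P, P'] ≤ Z`, for `a ∈ F - P` the map `p' ↦ [a, p']` is a bijection
`P' Z / Z → P Z / Z`, and `|F : P| ^ 2 ≤ |P : P ∩ Z|`.
-/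

set_option autoImplicit false
set_option linter.style.haveILetI false
set_option linter.unusedSectionVars false

open Subgroup
open scoped commutatorElement
open CfsgLib.Fusion (conjBy mem_conjBy conj_mem_conjBy conjBy_le_iff conjBy_eq_iff conjBy_mono
  conjBy_conjBy conjBy_inv_conjBy conjBy_conjBy_inv card_conjBy)
open CfsgLib.CFun (delt fixOf mem_fixOf)

namespace CfsgLib.FourFree.Stellmacher

universe u

variable {S T G G' : Type u} [Group S] [Group T] [Group G] [Group G'] [Finite T] [Finite G]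
  {f : T →* S} {τ : T →* G} {τ' : S →* G'} {U : Subgroup S}

/-- An element of odd order centralizing the commutator with `x`, a `2`-element, centralizes `x`. -/
theorem coprime_fix {d x : G} (hd : Nat.Coprime (orderOf d) 2) {k : ℕ}
    (hr : ⁅d, x⁆ ^ 2 ^ k = 1) (hc : Commute d ⁅d, x⁆) : d * x = x * d := by
  set r := ⁅d, x⁆ with hr'
  have hi : ∀ i : ℕ, d ^ i * x * (d ^ i)⁻¹ = r ^ i * x := by
    intro i
    induction i with
    | zero => simp
    | succ i ih =>
      calc d ^ (i + 1) * x * (d ^ (i + 1))⁻¹ = d * (d ^ i * x * (d ^ i)⁻¹) * d⁻¹ := by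
            rw [pow_succ']; group
        _ = d * r ^ i * x * d⁻¹ := by rw [ih]; group
        _ = r ^ i * (d * x * d⁻¹) := by rw [(hc.pow_right i).eq]; group
        _ = r ^ (i + 1) * x := by rw [pow_succ, hr', commutatorElement_def]; group
  have h1 := hi (orderOf d)
  rw [pow_orderOf_eq_one, one_mul, inv_one, mul_one, right_eq_mul] at h1
  have h2 : r = 1 := orderOf_eq_one_iff.1 (Nat.eq_one_of_dvd_coprimes
    (Nat.Coprime.pow_right k hd) (orderOf_dvd_of_pow_eq_one h1) (orderOf_dvd_of_pow_eq_one hr))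
  exact commutatorElement_eq_one_iff_mul_comm.1 h2

/-- Two elementary abelian `2`-subgroups centralizing each other generate one. -/
theorem sq_sup' {H : Type u} [Group H] {A B : Subgroup H} (ha : ∀ a ∈ A, a * a = 1)
    (hb : ∀ b ∈ B, b * b = 1) (hab : ∀ a ∈ A, ∀ b ∈ B, a * b = b * a) :
    ∀ x ∈ A ⊔ B, x * x = 1 := by
  have hC : A ⊔ B ≤ centralizer ((A ⊔ B : Subgroup H) : Set H) := by
    rw [centralizer_sup]
    exact sup_le
      (le_inf (fun a h => mem_centralizer_iff.2 fun a' h' => (commute_of_sq' ha h' h).eq)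
        fun a h => mem_centralizer_iff.2 fun b h' => (hab a h b h').symm)
      (le_inf (fun b h => mem_centralizer_iff.2 fun a h' => hab a h' b h)
        fun b h => mem_centralizer_iff.2 fun b' h' => (commute_of_sq' hb h' h).eq)
  intro x hx
  rw [sup_eq_closure] at hx
  induction hx using closure_induction with
  | mem x h => exact h.elim (ha x) (hb x)
  | one => exact one_mul 1
  | mul x y hx hy ihx ihy =>
    rw [← sup_eq_closure] at hx hy
    rw [(show Commute y x from (mem_centralizer_iff.1 (hC hx) y hy)).mul_mul_mul_comm, ihx, ihy,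
      one_mul]
  | inv x _ ih => rw [← mul_inv_rev, ih, inv_one]

/-- `⟨F, F^g⟩`. -/
noncomputable def pairL (τ : T →* G) (g : G) : Subgroup G := frameF τ ⊔ conjBy g (frameF τ)

/-- `F ∩ O₂(G)`. -/
noncomputable def pairP (τ : T →* G) : Subgroup G := frameF τ ⊓ Cfsg.pCore 2 G

/-- `(F ∩ O₂(G)) (F^g ∩ O₂(G))`. -/
noncomputable def pairD (τ : T →* G) (g : G) : Subgroup G := pairP τ ⊔ conjBy g (pairP τ)

/-- The part of `D` centralized by `O²(G)`. -/
noncomputable def pairZ (τ : T →* G) (g : G) : Subgroup G :=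
  pairD τ g ⊓ centralizer (Cfsg.pResidual 2 G : Set G)

/-- `g` gives a least pair. -/
structure IsPair (τ : T →* G) (g : G) : Prop where
  not_mem : g ∉ frameM τ
  mem : g ∈ pairL τ g
  least : ∀ h ∈ pairL τ g, h ∉ frameM τ → pairL τ h = pairL τ g

variable (hc : HConfig S T G G' f τ τ' U)

include hc

theorem HConfig.pCore_le_normalizer : Cfsg.pCore 2 G ≤ normalizer (frameF τ : Set G) :=
  hc.member.pCore_le_range.trans hc.range_le_frameM

theorem HConfig.frameF_sq : ∀ x ∈ frameF τ, x * x = 1 := sq_map hc.frame_good.sq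

theorem HConfig.pCore_le_normalizer_conj (g : G) :
    Cfsg.pCore 2 G ≤ normalizer (conjBy g (frameF τ) : Set G) := by
  haveI hQn : (Cfsg.pCore 2 G).Normal := Subgroup.sSup_normal _ fun N hN => hN.1
  rw [← CfsgLib.Fusion.conjBy_normalizer]
  intro q hq
  exact mem_conjBy.2 (hc.pCore_le_normalizer (by simpa using hQn.conj_mem q hq g⁻¹))

theorem HConfig.exists_pair : ∃ g, IsPair τ g := by
  haveI hQn : (Cfsg.pCore 2 G).Normal := Subgroup.sSup_normal _ fun N hN => hN.1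
  obtain ⟨h, hh⟩ : ∃ h, h ∉ frameM τ := by
    by_contra h
    push Not at h
    exact hc.frameM_ne_top ((Subgroup.eq_top_iff' _).2 h)
  obtain ⟨g, hgM, hmin⟩ := (Set.toFinite {g : G | g ∉ frameM τ}).exists_minimalFor
    (fun g => Nat.card (pairL τ g)) _ ⟨h, hh⟩
  -- move `g` into `⟨F, F^g⟩`
  have htop : Cfsg.pCore 2 G ⊔ pairL τ g = ⊤ := by
    rw [pairL, ← sup_assoc]; exact hc.sup_conj_eq_top hgM
  haveI : (Cfsg.pCore 2 G).Normal := hQn
  obtain ⟨q, hq, l, hl, hql⟩ := Subgroup.mem_sup_of_normal_left.1 (htop.ge (mem_top g))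
  have hq' : l⁻¹ * q * l ∈ Cfsg.pCore 2 G := by simpa using hQn.conj_mem q hq l⁻¹
  have hgl : g = l * (l⁻¹ * q * l) := by rw [← hql]; group
  have hN : l⁻¹ * q * l ∈ normalizer (frameF τ : Set G) := hc.pCore_le_normalizer hq'
  have heq : conjBy l (frameF τ) = conjBy g (frameF τ) := by
    rw [hgl, ← conjBy_conjBy, conjBy_eq_iff.2 hN]
  have hL : pairL τ l = pairL τ g := by rw [pairL, pairL, heq]
  have hlM : l ∉ frameM τ := fun e => hgM (by
    rw [hgl]; exact mul_mem e hN)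
  refine ⟨l, hlM, hL ▸ hl, fun k hk hkM => ?_⟩
  have hle : pairL τ k ≤ pairL τ l := sup_le le_sup_left
    (conjBy_le_iff.2 fun x hx => mul_mem (mul_mem hk (mem_sup_left hx)) (inv_mem hk))
  refine eq_of_le_of_card_ge hle ?_
  show Nat.card (pairL τ l) ≤ _
  rw [hL]
  exact hmin hkM (show Nat.card (pairL τ k) ≤ Nat.card (pairL τ g) by
    rw [← hL]; exact card_le_of_le hle)

variable {g : G} (hg : IsPair τ g)

include hg

theorem HConfig.core_sup_pairL : Cfsg.pCore 2 G ⊔ pairL τ g = ⊤ := by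
  rw [pairL, ← sup_assoc]; exact hc.sup_conj_eq_top hg.not_mem

theorem HConfig.pairL_normal : (pairL τ g).Normal := by
  refine Subgroup.normalizer_eq_top_iff.1 (top_le_iff.1 ?_)
  refine (hc.core_sup_pairL hg).ge.trans (sup_le (fun q hq => ?_) le_normalizer)
  refine conjBy_eq_iff.1 (CfsgLib.Fusion.conjBy_eq_of_le ?_)
  rw [pairL, conjBy, Subgroup.map_sup]
  exact sup_le_sup (le_of_eq (conjBy_eq_iff.2 (hc.pCore_le_normalizer hq)))
    (le_of_eq (conjBy_eq_iff.2 (hc.pCore_le_normalizer_conj g hq)))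

theorem HConfig.residual_le_pairL : Cfsg.pResidual 2 G ≤ pairL τ g :=
  hc.member.residual_le (hc.pairL_normal hg) (top_le_iff.1 ((hc.core_sup_pairL hg).ge.trans
    (sup_le (hc.member.pCore_le_range.trans le_sup_right) le_sup_left)))

theorem HConfig.conj_pairP : conjBy g (pairP τ) = conjBy g (frameF τ) ⊓ Cfsg.pCore 2 G := by
  haveI hQn : (Cfsg.pCore 2 G).Normal := Subgroup.sSup_normal _ fun N hN => hN.1
  rw [pairP, conjBy, map_inf _ _ _ (MulAut.conj g).injective]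
  exact congrArg (_ ⊓ ·) (conjBy_eq_iff.2 (by rw [normalizer_eq_top]; exact mem_top g))

theorem HConfig.pairD_le_core : pairD τ g ≤ Cfsg.pCore 2 G :=
  sup_le inf_le_right (by rw [hc.conj_pairP hg]; exact inf_le_right)

theorem HConfig.commutator_mem_pairP {q x : G} (hq : q ∈ Cfsg.pCore 2 G) (hx : x ∈ frameF τ) :
    ⁅q, x⁆ ∈ pairP τ ∧ ⁅x, q⁆ ∈ pairP τ := by
  haveI hQn : (Cfsg.pCore 2 G).Normal := Subgroup.sSup_normal _ fun N hN => hN.1
  have h1 : ⁅q, x⁆ ∈ pairP τ := by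
    rw [commutatorElement_def]
    refine Subgroup.mem_inf.2 ⟨mul_mem
      ((Subgroup.mem_normalizer_iff.1 (hc.pCore_le_normalizer hq) x).1 hx) (inv_mem hx), ?_⟩
    rw [mul_assoc q, mul_assoc q]
    exact mul_mem hq (hQn.conj_mem _ (inv_mem hq) x)
  exact ⟨h1, by rw [← commutatorElement_inv]; exact inv_mem h1⟩

theorem HConfig.commutator_mem_pairP' {q x : G} (hq : q ∈ Cfsg.pCore 2 G)
    (hx : x ∈ conjBy g (frameF τ)) : ⁅q, x⁆ ∈ conjBy g (pairP τ) := by
  haveI hQn : (Cfsg.pCore 2 G).Normal := Subgroup.sSup_normal _ fun N hN => hN.1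
  have h := (hc.commutator_mem_pairP hg (show g⁻¹ * q * g ∈ Cfsg.pCore 2 G by
    simpa using hQn.conj_mem q hq g⁻¹) (mem_conjBy.1 hx)).1
  refine mem_conjBy.2 ?_
  convert h using 1
  rw [commutatorElement_def, commutatorElement_def]; group

theorem HConfig.pairP_le_conj_normalizer {p : G} (hp : p ∈ pairP τ) {x : G}
    (hx : x ∈ conjBy g (pairP τ)) : ⁅p, x⁆ ∈ pairP τ ⊓ conjBy g (pairP τ) := by
  rw [hc.conj_pairP hg] at hx
  exact ⟨(hc.commutator_mem_pairP hg hx.2 hp.1).2, hc.commutator_mem_pairP' hg hp.2 hx.1⟩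

theorem HConfig.pairD_normal : (pairD τ g).Normal := by
  haveI hQn : (Cfsg.pCore 2 G).Normal := Subgroup.sSup_normal _ fun N hN => hN.1
  have hFP : ∀ x ∈ frameF τ, ∀ y ∈ pairD τ g, x * y * x⁻¹ ∈ pairD τ g := by
    intro x hx y hy
    have := mul_mem (mem_sup_left (hc.commutator_mem_pairP hg (hc.pairD_le_core hg hy) hx).2 :
      ⁅x, y⁆ ∈ pairD τ g) hy
    rwa [commutatorElement_def, inv_mul_cancel_right] at this
  have hF'P : ∀ x ∈ conjBy g (frameF τ), ∀ y ∈ pairD τ g, x * y * x⁻¹ ∈ pairD τ g := by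
    intro x hx y hy
    have := mul_mem (inv_mem (mem_sup_right (hc.commutator_mem_pairP' hg (hc.pairD_le_core hg hy) hx) :
      ⁅y, x⁆ ∈ pairD τ g)) hy
    rwa [commutatorElement_inv, commutatorElement_def, inv_mul_cancel_right] at this
  refine Subgroup.normalizer_eq_top_iff.1 (top_le_iff.1 ((hc.core_sup_pairL hg).ge.trans
    (sup_le (fun q hq => ?_) (sup_le (fun x hx => ?_) fun x hx => ?_))))
  · refine conjBy_eq_iff.1 (CfsgLib.Fusion.conjBy_eq_of_le ?_)
    rw [pairD, hc.conj_pairP hg, conjBy, Subgroup.map_sup, pairP,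
      map_inf _ _ _ (MulAut.conj q).injective, map_inf _ _ _ (MulAut.conj q).injective]
    exact sup_le_sup (inf_le_inf (le_of_eq (conjBy_eq_iff.2 (hc.pCore_le_normalizer hq)))
        (le_of_eq (conjBy_eq_iff.2 (le_normalizer hq))))
      (inf_le_inf (le_of_eq (conjBy_eq_iff.2 (hc.pCore_le_normalizer_conj g hq)))
        (le_of_eq (conjBy_eq_iff.2 (le_normalizer hq))))
  · exact conjBy_eq_iff.1 (CfsgLib.Fusion.conjBy_eq_of_le (conjBy_le_iff.2 (hFP x hx)))
  · exact conjBy_eq_iff.1 (CfsgLib.Fusion.conjBy_eq_of_le (conjBy_le_iff.2 (hF'P x hx)))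

theorem HConfig.pairZ_normal : (pairZ τ g).Normal := by
  haveI := hc.pairD_normal hg
  haveI : (Cfsg.pResidual 2 G).Normal := CfsgLib.Fusion.pResidual_normal
  rw [pairZ]
  infer_instance

theorem HConfig.inf_le_pairZ : pairP τ ⊓ conjBy g (pairP τ) ≤ pairZ τ g := by
  intro x hx
  refine ⟨mem_sup_left hx.1, mem_centralizer_iff.2 fun d hd => ?_⟩
  have hxL : pairL τ g ≤ centralizer ({x} : Set G) := by
    refine sup_le (fun y hy => mem_centralizer_singleton_iff.2
      (commute_of_sq' hc.frameF_sq hy hx.1.1).eq) fun y hy => mem_centralizer_singleton_iff.2 ?_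
    have h2 := hx.2
    rw [hc.conj_pairP hg] at h2
    exact (commute_of_sq' (sq_conjBy hc.frameF_sq g) hy h2.1).eq
  exact mem_centralizer_singleton_iff.1 (hxL (hc.residual_le_pairL hg hd))

/-- The commutators of `O₂(G)` and `⟨F, F^g⟩` lie in `D`. -/
theorem HConfig.commutator_le_pairD : ⁅Cfsg.pCore 2 G, pairL τ g⁆ ≤ pairD τ g := by
  haveI := hc.pairD_normal hg
  set π := QuotientGroup.mk' (pairD τ g)
  have hL : pairL τ g ≤ (centralizer ((Cfsg.pCore 2 G).map π : Set (G ⧸ pairD τ g))).comap π := by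
    refine sup_le (fun x hx => ?_) fun x hx => ?_
    all_goals
      refine mem_centralizer_iff.2 ?_
      rintro _ ⟨q, hq, rfl⟩
      refine commutatorElement_eq_one_iff_mul_comm.1 ?_
      rw [← map_commutatorElement, QuotientGroup.mk'_apply, QuotientGroup.eq_one_iff]
    · exact mem_sup_left (hc.commutator_mem_pairP hg hq hx).1
    · exact mem_sup_right (hc.commutator_mem_pairP' hg hq hx)
  rw [Subgroup.commutator_le]
  intro q hq l hl
  rw [← QuotientGroup.eq_one_iff, ← QuotientGroup.mk'_apply, map_commutatorElement,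
    commutatorElement_eq_one_iff_mul_comm]
  exact mem_centralizer_iff.1 (hL hl) _ ⟨q, hq, rfl⟩

theorem HConfig.residual_fix {x : G} (hx : x ∈ pairD τ g)
    (h : ∀ d : G, Nat.Coprime (orderOf d) 2 → ⁅d, x⁆ ∈ pairZ τ g) : x ∈ pairZ τ g := by
  refine ⟨hx, mem_centralizer_iff.2 fun d hd => ?_⟩
  have hle : Cfsg.pResidual 2 G ≤ centralizer ({x} : Set G) := (closure_le _).2 fun d hd => by
    refine mem_centralizer_singleton_iff.2 ?_
    have hZ := h d hd
    obtain ⟨k, hk⟩ := (CfsgLib.PGroup.isPGroup_pCore 2 G)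
      (⟨⁅d, x⁆, hc.pairD_le_core hg hZ.1⟩ : Cfsg.pCore 2 G)
    exact coprime_fix hd (congrArg Subtype.val hk)
      (mem_centralizer_iff.1 hZ.2 d (subset_closure hd))
  exact mem_centralizer_singleton_iff.1 (hle hd)

theorem HConfig.mem_pairZ_of_fixed {x : G} (hx : x ∈ pairD τ g)
    (h : ∀ l ∈ pairL τ g, ⁅l, x⁆ ∈ pairZ τ g) : x ∈ pairZ τ g :=
  hc.residual_fix hg hx fun d hd => h d (hc.residual_le_pairL hg (subset_closure hd))

/-- An element of `⟨F, F^g⟩` centralizing `D / Z` lies in `O₂(G)`. -/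
theorem HConfig.mem_core_of_fix {N : Subgroup G} (hN : N.Normal) (hNL : N ≤ pairL τ g)
    (h : ∀ l ∈ N, ∀ x ∈ pairD τ g, ⁅l, x⁆ ∈ pairZ τ g) : N ≤ Cfsg.pCore 2 G := by
  refine CfsgLib.PGroup.le_pCore hN fun l => ?_
  obtain ⟨e, m, hm, hem⟩ := Nat.exists_eq_two_pow_mul_odd (orderOf_pos (l : G)).ne'
  refine ⟨e, Subtype.ext ?_⟩
  show (l : G) ^ 2 ^ e = 1
  set d := (l : G) ^ 2 ^ e with hd
  have hdN : d ∈ N := pow_mem l.2 _
  have hcop : Nat.Coprime (orderOf d) 2 := by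
    refine Nat.Coprime.coprime_dvd_left (orderOf_dvd_of_pow_eq_one ?_) (Nat.coprime_two_right.2 hm)
    rw [hd, ← pow_mul, ← hem, pow_orderOf_eq_one]
  have hQ := CfsgLib.PGroup.isPGroup_pCore 2 G
  have hdD : ∀ x ∈ pairD τ g, d * x = x * d := fun x hx => by
    have hZ := h d hdN x hx
    obtain ⟨k, hk⟩ := hQ ⟨_, hc.pairD_le_core hg hZ.1⟩
    exact coprime_fix hcop (congrArg Subtype.val hk)
      (mem_centralizer_iff.1 hZ.2 d (subset_closure hcop))
  have hdQ : d ∈ Cfsg.pCore 2 G := hc.member.constrained (mem_centralizer_iff.2 fun q hq => by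
    have hD : ⁅d, q⁆ ∈ pairD τ g := by
      rw [← commutatorElement_inv]
      exact inv_mem (hc.commutator_le_pairD hg (commutator_mem_commutator hq (hNL hdN)))
    obtain ⟨k, hk⟩ := hQ ⟨_, hc.pairD_le_core hg hD⟩
    exact (coprime_fix hcop (congrArg Subtype.val hk) (hdD _ hD)).symm)
  obtain ⟨k, hk⟩ := hQ ⟨d, hdQ⟩
  exact orderOf_eq_one_iff.1 (Nat.eq_one_of_dvd_coprimes (Nat.Coprime.pow_right k hcop)
    dvd_rfl (orderOf_dvd_of_pow_eq_one (congrArg Subtype.val hk)))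

set_option maxHeartbeats 1600000 in
/-- The halves: an element of `F - P` fixing an element of `P'` modulo `Z` forces it into `Z`,
`[a, P']` covers `P` modulo `Z`, and the square bound holds. -/
theorem HConfig.pair_main :
    (∀ a ∈ frameF τ, a ∉ Cfsg.pCore 2 G → ∀ x ∈ conjBy g (pairP τ), ⁅a, x⁆ ∈ pairZ τ g →
      x ∈ pairZ τ g) ∧
    (∀ a ∈ frameF τ, a ∉ Cfsg.pCore 2 G → ∀ p ∈ pairP τ, ∃ x ∈ conjBy g (pairP τ),
      ⁅a, x⁆⁻¹ * p ∈ pairZ τ g) ∧
    (pairZ τ g).relIndex (pairP τ) = (pairZ τ g).relIndex (conjBy g (pairP τ)) ∧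
    (∀ x ∈ pairP τ ⊔ pairZ τ g, x ∈ conjBy g (pairP τ) ⊔ pairZ τ g → x ∈ pairZ τ g) ∧
    (Cfsg.pCore 2 G).relIndex (frameF τ) * (Cfsg.pCore 2 G).relIndex (frameF τ) ≤
      (pairZ τ g).relIndex (pairP τ) ∧
    ¬ pairD τ g ≤ pairZ τ g := by
  classical
  haveI : Fact (Nat.Prime 2) := ⟨Nat.prime_two⟩
  haveI hQn : (Cfsg.pCore 2 G).Normal := Subgroup.sSup_normal _ fun N hN => hN.1
  haveI hDn := hc.pairD_normal hg
  haveI hZn := hc.pairZ_normal hg
  haveI hLn := hc.pairL_normal hg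
  have hgL := hg.mem
  have hPF : pairP τ ≤ frameF τ := inf_le_left
  have hP'F : conjBy g (pairP τ) ≤ conjBy g (frameF τ) := conjBy_mono hPF
  have hDL : pairD τ g ≤ pairL τ g := sup_le_sup hPF hP'F
  have hDne : ¬ pairD τ g ≤ pairZ τ g := fun h => by
    have hLQ : pairL τ g ≤ Cfsg.pCore 2 G := hc.mem_core_of_fix hg hLn le_rfl fun l hl x hx => by
      rw [commutatorElement_def]
      exact mul_mem (hZn.conj_mem x (h hx) l) (inv_mem (h hx))
    exact hc.frameF_not_le (le_sup_left.trans hLQ)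
  -- the quotient by `Z`
  set qZ := QuotientGroup.mk' (pairZ τ g) with hqZ
  have hqZs : Function.Surjective qZ := QuotientGroup.mk'_surjective _
  have hq1 : ∀ x, qZ x = 1 ↔ x ∈ pairZ τ g := fun x => QuotientGroup.eq_one_iff x
  have hqc : ∀ x y, qZ x * qZ y = qZ y * qZ x ↔ ⁅x, y⁆ ∈ pairZ τ g := fun x y => by
    rw [← hq1, map_commutatorElement, commutatorElement_eq_one_iff_mul_comm]
  set E := (pairD τ g).map qZ with hE
  haveI hEn : E.Normal := hDn.map _ hqZs
  have hE2 : ∀ e ∈ E, e * e = 1 := by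
    rw [hE, pairD, Subgroup.map_sup]
    have hA : ∀ a ∈ (pairP τ).map qZ, a * a = 1 := by
      rintro _ ⟨a, ha, rfl⟩
      rw [← map_mul, hc.frameF_sq a (hPF ha), map_one]
    have hB : ∀ a ∈ (conjBy g (pairP τ)).map qZ, a * a = 1 := by
      rintro _ ⟨a, ha, rfl⟩
      rw [← map_mul, sq_conjBy hc.frameF_sq g a (hP'F ha), map_one]
    have hAB : ∀ a ∈ (pairP τ).map qZ, ∀ b ∈ (conjBy g (pairP τ)).map qZ, a * b = b * a := by
      rintro _ ⟨a, ha, rfl⟩ _ ⟨b, hb, rfl⟩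
      exact (hqc a b).2 (hc.inf_le_pairZ hg (hc.pairP_le_conj_normalizer hg ha hb))
    exact sq_sup' hA hB hAB
  letI : CommGroup E := { mul_comm := fun a b => Subtype.ext (commute_of_sq' hE2 a.2 b.2).eq }
  have h2E : ∀ e : E, e * e = 1 := fun e => Subtype.ext (hE2 e e.2)
  -- the acting group
  let φ : G ⧸ pairZ τ g →* MulAut E := MulAut.conjNormal
  let σ := QuotientGroup.mk' φ.ker
  let Φ := QuotientGroup.kerLift φ
  have hΦ : Function.Injective Φ := QuotientGroup.kerLift_injective _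
  have hact : ∀ (y : G ⧸ pairZ τ g) (e : E), ((Φ (σ y) e : E) : G ⧸ pairZ τ g) = y * e * y⁻¹ :=
    fun y e => rfl
  have hHG : HG ((G ⧸ pairZ τ g) ⧸ φ.ker) := hg_of_not_involves
    (fun h => hc.member.free (CfsgLib.Fusion.involves_of_surjective qZ hqZs h)) σ
    (QuotientGroup.mk'_surjective _) (MonoidHom.id E) Function.surjective_id hΦ hEn
    (fun y e => Subtype.ext (hact y e)) (fun a ha b hb => commute_of_sq' hE2 ha hb) h2E
  let ψ : ↥(pairL τ g) →* (G ⧸ pairZ τ g) ⧸ φ.ker := σ.comp (qZ.comp (pairL τ g).subtype)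
  let Lb := ψ.range
  let π : ↥(pairL τ g) →* Lb := ψ.rangeRestrict
  have hπ : Function.Surjective π := ψ.rangeRestrict_surjective
  let ρ : Lb →* MulAut E := Φ.comp Lb.subtype
  have hρ : Function.Injective ρ := hΦ.comp Lb.subtype_injective
  let q : ↥(pairD τ g) →* E := (qZ.comp (pairD τ g).subtype).codRestrict E
    fun x => mem_map_of_mem qZ x.2
  have hqs : Function.Surjective q := by
    rintro ⟨_, x, hx, rfl⟩
    exact ⟨⟨x, hx⟩, rfl⟩
  have hq : ∀ x, q x = 1 ↔ (x : G) ∈ pairZ τ g := fun x =>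
    ⟨fun h => (hq1 _).1 (congrArg Subtype.val h), fun h => Subtype.ext ((hq1 _).2 h)⟩
  have hfix : ∀ (l : ↥(pairL τ g)) (x : ↥(pairD τ g)),
      ρ (π l) (q x) = q x ↔ ⁅(l : G), (x : G)⁆ ∈ pairZ τ g := by
    intro l x
    rw [← hqc, Subtype.ext_iff]
    show qZ (l : G) * qZ (x : G) * (qZ (l : G))⁻¹ = qZ (x : G) ↔ _
    exact mul_inv_eq_iff_eq_mul
  have htriv : ∀ e : E, (∀ y, ρ y e = e) → e = 1 := fun e he => by
    obtain ⟨x, rfl⟩ := hqs e
    exact (hq x).2 (hc.mem_pairZ_of_fixed hg x.2 fun l hl => (hfix ⟨l, hl⟩ x).1 (he _))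
  have hker : ∀ l : ↥(pairL τ g), π l = 1 ↔ ∀ x ∈ pairD τ g, ⁅(l : G), x⁆ ∈ pairZ τ g := by
    intro l
    constructor
    · intro h x hx
      exact (hfix l ⟨x, hx⟩).1 (by rw [h, map_one, MulAut.one_apply])
    · intro h
      refine hρ (MulEquiv.ext fun e => ?_)
      obtain ⟨x, rfl⟩ := hqs e
      rw [map_one, MulAut.one_apply]
      exact (hfix l x).2 (h x x.2)
  have hkerQ : π.ker.map (pairL τ g).subtype ≤ Cfsg.pCore 2 G := by
    refine hc.mem_core_of_fix hg ?_ (map_subtype_le _) ?_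
    · refine ⟨fun y hy k => ?_⟩
      obtain ⟨l, hl, rfl⟩ := hy
      refine ⟨⟨k * l * k⁻¹, hLn.conj_mem l l.2 k⟩, (hker _).2 fun x hx => ?_, rfl⟩
      have h1 := (hker l).1 hl _ (show k⁻¹ * x * k ∈ pairD τ g by
        simpa using hDn.conj_mem x hx k⁻¹)
      convert hZn.conj_mem _ h1 k using 1
      simp only [commutatorElement_def, mul_inv_rev, inv_inv]
      group
    · rintro _ ⟨l, hl, rfl⟩ x hx
      exact (hker l).1 hl x hx
  have hker2 : IsPGroup 2 π.ker := by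
    have h := (CfsgLib.PGroup.isPGroup_pCore 2 G).to_le hkerQ
    exact h.of_equiv (π.ker.equivMapOfInjective _ (pairL τ g).subtype_injective).symm
  -- the subgroups
  set FL := (frameF τ).subgroupOf (pairL τ g) with hFL
  set B := FL.map π with hB
  set Mb := ((frameM τ).subgroupOf (pairL τ g)).map π with hMb
  have hM' : ∀ l : ↥(pairL τ g), π l ∈ Mb → (l : G) ∈ frameM τ := by
    rintro l ⟨m, hm, hml⟩
    have hk : m⁻¹ * l ∈ π.ker := by
      rw [MonoidHom.mem_ker, map_mul, map_inv, hml, inv_mul_cancel]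
    have := mul_mem (show (m : G) ∈ frameM τ from hm)
      (hc.pCore_le_normalizer (hkerQ (mem_map_of_mem _ hk)) : ((m⁻¹ * l : ↥(pairL τ g)) : G) ∈ _)
    simpa using this
  obtain ⟨T1, hFT1, hT1L, hT1p, hT1i⟩ := CfsgLib.Fusion.exists_le_not_dvd_relIndex
    (hc.range_isPGroup.to_le hc.frameF_le) (le_sup_left : frameF τ ≤ pairL τ g)
  have hT1M : T1 ≤ frameM τ := by
    obtain ⟨P₀, hP₀⟩ := hc.member.sylow
    obtain ⟨x, -, hx⟩ := CfsgLib.Fusion.exists_conj_le_of_not_dvd_relIndex hc.range_isPGroup le_top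
      (by rw [relIndex_top_right, ← hP₀]; exact P₀.not_dvd_index) hT1p le_top
    have hxM := hc.mem_frameM ((conjBy_mono hFT1).trans hx)
    intro t ht
    have := mul_mem (mul_mem (inv_mem hxM) (hc.range_le_frameM (hx (conj_mem_conjBy (g := x) ht)))) hxM
    simpa [mul_assoc] using this
  obtain ⟨Tb, hTb⟩ := exists_sylow_image hT1p hT1L hT1i π hπ
  have hconjB : ∀ h : ↥(pairL τ g), conjBy (π h) B =
      ((conjBy (h : G) (frameF τ)).subgroupOf (pairL τ g)).map π := by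
    intro h
    rw [hB, ← map_conjBy]
    congr 1
    ext x
    rw [mem_conjBy, hFL, mem_subgroupOf, mem_subgroupOf, mem_conjBy]
    rfl
  have hBsq : ∀ b ∈ B, b * b = 1 := by
    rintro _ ⟨b, hb, rfl⟩
    rw [← map_mul, show b * b = 1 from Subtype.ext (hc.frameF_sq b hb), map_one]
  -- fixed points of `B`
  set PE := ((pairP τ).subgroupOf (pairD τ g)).map q with hPE
  set PE' := ((conjBy g (pairP τ)).subgroupOf (pairD τ g)).map q with hPE'
  have hPfix : ∀ (A A' : Subgroup G), A ≤ pairL τ g → (∀ a ∈ A', ∀ b ∈ A, a * b = b * a) →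
      (A'.subgroupOf (pairD τ g)).map q ≤ fixOf ρ ((A.subgroupOf (pairL τ g)).map π) := by
    rintro A A' - hAA _ ⟨x, hx, rfl⟩
    refine mem_fixOf.2 ?_
    rintro _ ⟨a, ha, rfl⟩
    refine (hfix a x).2 ?_
    rw [commutatorElement_eq_one_iff_mul_comm.2
      (show (a : G) * (x : G) = x * a from (hAA _ hx _ ha).symm)]
    exact one_mem _
  have hPEB : PE ≤ fixOf ρ B := hPfix _ _ le_sup_left fun a ha b hb =>
    (commute_of_sq' hc.frameF_sq (hPF ha) hb).eq
  have hPE'B : PE' ≤ fixOf ρ (conjBy (π ⟨g, hgL⟩) B) := by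
    rw [hconjB]
    exact hPfix _ _ le_sup_right fun a ha b hb =>
      (commute_of_sq' (sq_conjBy hc.frameF_sq g) (hP'F ha) hb).eq
  have hsup : PE ⊔ PE' = ⊤ := by
    have h1 : pairP τ ≤ pairD τ g := le_sup_left
    have h2 : conjBy g (pairP τ) ≤ pairD τ g := le_sup_right
    rw [hPE, hPE', ← Subgroup.map_sup, ← subgroupOf_sup h1 h2,
      show pairP τ ⊔ conjBy g (pairP τ) = pairD τ g from rfl, subgroupOf_self,
      map_top_of_surjective q hqs]
  have hgenπ : ∀ h : ↥(pairL τ g), (h : G) ∉ frameM τ → B ⊔ conjBy (π h) B = ⊤ := by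
    intro h hh
    have h1 : frameF τ ≤ pairL τ g := le_sup_left
    have h2 : conjBy (h : G) (frameF τ) ≤ pairL τ g :=
      le_trans le_sup_right (hg.least h h.2 hh).le
    rw [hconjB, hB, hFL, ← Subgroup.map_sup, ← subgroupOf_sup h1 h2,
      show frameF τ ⊔ conjBy (h : G) (frameF τ) = pairL τ g from hg.least h h.2 hh, subgroupOf_self,
      map_top_of_surjective π hπ]
  have hboth : ∀ e : E, e ∈ fixOf ρ B → e ∈ fixOf ρ (conjBy (π ⟨g, hgL⟩) B) → e = 1 := by
    intro e h1 h2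
    refine htriv e fun y => ?_
    have : (⊤ : Subgroup Lb) ≤ ptFix ρ (zpowers e) := (hgenπ ⟨g, hgL⟩ hg.not_mem).ge.trans
      (sup_le (le_ptFix_iff.2 (zpowers_le.2 h1)) (le_ptFix_iff.2 (zpowers_le.2 h2)))
    exact this (mem_top y) e (mem_zpowers e)
  have hfixB : fixOf ρ B = PE := by
    refine le_antisymm (fun e he => ?_) hPEB
    obtain ⟨u, hu, v, hv, rfl⟩ := Subgroup.mem_sup.1 (hsup.ge (mem_top e))
    have hv1 : v = 1 := hboth v ((mul_mem_cancel_left (hPEB hu)).1 he) (hPE'B hv)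
    rw [hv1, mul_one]; exact hu
  have hfixB' : fixOf ρ (conjBy (π ⟨g, hgL⟩) B) = PE' := by
    refine le_antisymm (fun e he => ?_) hPE'B
    obtain ⟨u, hu, v, hv, rfl⟩ := Subgroup.mem_sup.1 (hsup.ge (mem_top e))
    have hu1 : u = 1 := hboth u (hPEB hu) ((mul_mem_cancel_right (hPE'B hv)).1 he)
    rw [hu1, one_mul]; exact hv
  have hinf : PE ⊓ PE' = ⊥ :=
    (Subgroup.eq_bot_iff_forall _).2 fun e he => hboth e (hPEB he.1) (hPE'B he.2)
  have hcardPE : Nat.card PE' = Nat.card PE := by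
    rw [← hfixB', ← hfixB, card_fixOf_conjBy]
  have hcard : Nat.card E = Nat.card (fixOf ρ B) * Nat.card (fixOf ρ B) := by
    have := card_sup_mul_inf PE PE'
    rw [hsup, hinf, Subgroup.card_bot, mul_one, Subgroup.card_top, hcardPE] at this
    rw [hfixB]; exact this
  -- the setup
  have hquad : ∀ a ∈ B, ∀ b ∈ B, ∀ e : E, delt ρ a (delt ρ b e) = 1 := by
    rintro a ha _ ⟨b, hb, rfl⟩ e
    obtain ⟨x, rfl⟩ := hqs e
    refine div_eq_one.2 (mem_fixOf.1 (hfixB.ge ?_) a ha)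
    have hc1 := (hc.commutator_mem_pairP hg (hc.pairD_le_core hg x.2) hb).2
    refine ⟨⟨⁅(b : G), (x : G)⁆, mem_sup_left hc1⟩, hc1, ?_⟩
    refine Subtype.ext ?_
    show qZ ⁅(b : G), (x : G)⁆ = ((ρ (π b) (q x) / q x : E) : G ⧸ pairZ τ g)
    rw [Subgroup.coe_div, map_commutatorElement, commutatorElement_def, div_eq_mul_inv]
    rfl
  have hMbtop : Mb ≠ ⊤ := fun e => hg.not_mem (hM' ⟨g, hgL⟩ (e ▸ mem_top _))
  have hBne : B ≠ ⊥ := fun e => hc.frameF_not_le fun x hx => by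
    refine hkerQ ⟨⟨x, mem_sup_left hx⟩, ?_, rfl⟩
    exact MonoidHom.mem_ker.2 (mem_bot.1 (e ▸ mem_map_of_mem π
      (show (⟨x, mem_sup_left hx⟩ : ↥(pairL τ g)) ∈ FL from hx)))
  have hs : Setup ρ (Tb : Subgroup Lb) Mb B := by
    refine ⟨h2E, hHG.subgroup _, ⟨Tb, rfl⟩, hTb ▸ map_mono fun x hx => hT1M hx, hMbtop,
      hTb ▸ map_mono fun x hx => hFT1 hx, hBne, hBsq, hquad, fun y hy => ?_⟩
    obtain ⟨h, rfl⟩ := hπ y
    exact hgenπ h fun hh => hy (mem_map_of_mem π hh)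
  have hBcore : B ⊓ Cfsg.pCore 2 Lb = ⊥ := by
    have hN2 : IsPGroup 2 ((Cfsg.pCore 2 Lb).comap π) :=
      (CfsgLib.PGroup.isPGroup_pCore 2 Lb).comap_of_ker_isPGroup π hker2
    haveI hn : (Cfsg.pCore 2 Lb).Normal := Subgroup.sSup_normal _ fun N hN => hN.1
    haveI : (Cfsg.pCore 2 ↥(pairL τ g)).Characteristic := CfsgLib.Coprime.pCore_characteristic 2
    have h1 : (Cfsg.pCore 2 ↥(pairL τ g)).map (pairL τ g).subtype ≤ Cfsg.pCore 2 G :=
      CfsgLib.PGroup.le_pCore ConjAct.normal_of_characteristic_of_normal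
        ((CfsgLib.PGroup.isPGroup_pCore 2 _).map _)
    refine (Subgroup.eq_bot_iff_forall _).2 ?_
    rintro _ ⟨⟨b, hb, rfl⟩, hbO⟩
    have hbQ : (b : G) ∈ Cfsg.pCore 2 G := h1 (mem_map_of_mem _
      (CfsgLib.PGroup.le_pCore (hn.comap π) hN2 hbO))
    refine (hker b).2 fun x hx => ?_
    have hle : pairD τ g ≤ (centralizer ({qZ (b : G)} : Set (G ⧸ pairZ τ g))).comap qZ := by
      refine sup_le (fun y hy => ?_) fun y hy => ?_
      all_goals
        refine mem_centralizer_singleton_iff.2 ((hqc y b).2 ?_)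
      · rw [commutatorElement_eq_one_iff_mul_comm.2
          (show y * (b : G) = b * y from (commute_of_sq' hc.frameF_sq (hPF hy) hb).eq)]
        exact one_mem _
      · rw [← commutatorElement_inv]
        exact inv_mem (hc.inf_le_pairZ hg (hc.pairP_le_conj_normalizer hg ⟨hb, hbQ⟩ hy))
    exact (hqc (b : G) x).1 (mem_centralizer_singleton_iff.1 (hle hx)).symm
  have hBM : B ≤ Mb := map_mono fun x hx => le_normalizer hx
  have hBMcore : B ≤ (Cfsg.pCore 2 Mb).map Mb.subtype := by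
    have hn : Mb ≤ normalizer (B : Set Lb) := by
      rintro _ ⟨m, hm, rfl⟩
      rw [← conjBy_eq_iff, hconjB, show conjBy (m : G) (frameF τ) = frameF τ from conjBy_eq_iff.2 hm]
    refine le_trans (le_of_eq (map_subgroupOf_eq_of_le hBM).symm) (map_mono ?_)
    refine CfsgLib.PGroup.le_pCore (normal_subgroupOf_of_le_normalizer hn) ?_
    exact IsPGroup.of_equiv (fun b => ⟨1, Subtype.ext (by simp [pow_two, hBsq b b.2])⟩)
      (subgroupOfEquivOfLe hBM).symm
  have hne : fixOf ρ B ≠ ⊥ := by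
    intro e
    refine hDne fun x hx => (hq ⟨x, hx⟩).1 ?_
    have h0 : Nat.card E = 1 := by rw [hcard, e, Subgroup.card_bot]
    haveI := (Nat.card_eq_one_iff_unique.1 h0).1
    exact Subsingleton.elim _ _
  have hsingle : ∀ a ∈ B, a ≠ 1 → ∀ e, ρ a e = e → e ∈ fixOf ρ B := fun a ha ha1 e he =>
    hs.fix_single htriv hcard hBcore ha ha1 he
  have hbnd := (hs.halves htriv hcard hBcore hBMcore hne).sq_le hMbtop hne
  -- translate back
  have hcardZ : ∀ A : Subgroup G, A ≤ pairD τ g →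
      Nat.card ((A.subgroupOf (pairD τ g)).map q) = (pairZ τ g).relIndex A := by
    intro A hA
    rw [← relIndex_ker, show q.ker = (pairZ τ g).subgroupOf (pairD τ g) from
      Subgroup.ext fun x => hq x, subgroupOf, relIndex_comap, subgroupOf_map_subtype,
      inf_eq_left.2 hA]
  have hBa : ∀ a ∈ frameF τ, ∀ (ha : a ∈ pairL τ g), a ∉ Cfsg.pCore 2 G → π ⟨a, ha⟩ ≠ 1 :=
    fun a _ ha haQ e => haQ (hkerQ ⟨⟨a, ha⟩, MonoidHom.mem_ker.2 e, rfl⟩)
  have hinj : ∀ a ∈ frameF τ, a ∉ Cfsg.pCore 2 G → ∀ x ∈ conjBy g (pairP τ),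
      ⁅a, x⁆ ∈ pairZ τ g → x ∈ pairZ τ g := by
    intro a ha haQ x hx hax
    have h1 : q ⟨x, mem_sup_right hx⟩ ∈ fixOf ρ B :=
      hsingle _ (mem_map_of_mem π (show (⟨a, mem_sup_left ha⟩ : ↥(pairL τ g)) ∈ FL from ha))
        (hBa a ha _ haQ) _ ((hfix ⟨a, mem_sup_left ha⟩ ⟨x, mem_sup_right hx⟩).2 hax)
    exact (hq _).1 (hboth _ h1 (hPE'B ⟨⟨x, mem_sup_right hx⟩, hx, rfl⟩))
  refine ⟨hinj, ?_, ?_, ?_, ?_, hDne⟩
  · -- surjectivity
    intro a ha haQ p hp
    set b := π ⟨a, mem_sup_left ha⟩ with hb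
    have hbB : b ∈ B :=
      mem_map_of_mem π (show (⟨a, mem_sup_left ha⟩ : ↥(pairL τ g)) ∈ FL from ha)
    let δ : PE' → PE := fun e => ⟨delt ρ b e, by
      rw [← hfixB]; exact mem_fixOf.2 fun c hc' => div_eq_one.1 (hquad c hc' b hbB _)⟩
    have hδ : Function.Injective δ := fun e1 e2 h => by
      have h' : delt ρ b (e1 : E) = delt ρ b (e2 : E) := congrArg Subtype.val h
      have h3 : delt ρ b ((e1 : E) / e2) = 1 := by
        simp only [delt, map_div] at h' ⊢
        rw [div_div_div_comm, h', div_self']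
      refine Subtype.ext (div_eq_one.1 (hboth _ ?_ (hPE'B (div_mem e1.2 e2.2))))
      exact hsingle b hbB (hBa a ha _ haQ) _ (div_eq_one.1 h3)
    obtain ⟨e, he⟩ := ((Nat.bijective_iff_injective_and_card δ).2 ⟨hδ, hcardPE⟩).2
      ⟨q ⟨p, mem_sup_left hp⟩, ⟨⟨p, mem_sup_left hp⟩, hp, rfl⟩⟩
    obtain ⟨x, hx, hxe⟩ := e.2
    refine ⟨x, hx, (hq1 _).1 ?_⟩
    have h1 : ((delt ρ b (e : E) : E) : G ⧸ pairZ τ g) = qZ p :=
      congrArg (fun y : PE => ((y : E) : G ⧸ pairZ τ g)) he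
    rw [← hxe, delt, Subgroup.coe_div] at h1
    rw [map_mul, map_inv, map_commutatorElement, inv_mul_eq_one, commutatorElement_def, ← h1,
      div_eq_mul_inv]
    rfl
  · rw [← hcardZ _ le_sup_left, ← hcardZ _ le_sup_right]
    exact hcardPE.symm
  · intro x hx hx'
    obtain ⟨p, hp, z, hz, rfl⟩ := Subgroup.mem_sup_of_normal_right.1 hx
    obtain ⟨p', hp', z', hz', he⟩ := Subgroup.mem_sup_of_normal_right.1 hx'
    have e1 : qZ p' = qZ p := by
      have := congrArg qZ he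
      rwa [map_mul, map_mul, (hq1 z').2 hz', (hq1 z).2 hz, mul_one, mul_one] at this
    have e2 : q ⟨p', mem_sup_right hp'⟩ = q ⟨p, mem_sup_left hp⟩ := Subtype.ext e1
    have hmem : q ⟨p, mem_sup_left hp⟩ ∈ PE ⊓ PE' :=
      ⟨⟨⟨p, mem_sup_left hp⟩, hp, rfl⟩, ⟨⟨p', mem_sup_right hp'⟩, hp', e2⟩⟩
    rw [hinf, mem_bot, hq] at hmem
    exact mul_mem hmem hz
  · have hBcard : (Cfsg.pCore 2 G).relIndex (frameF τ) ≤ Nat.card B := by
      rw [hB, ← relIndex_ker]
      have e : (Cfsg.pCore 2 G).relIndex (frameF τ) =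
          ((Cfsg.pCore 2 G).subgroupOf (pairL τ g)).relIndex FL := by
        rw [hFL, subgroupOf, subgroupOf, relIndex_comap,
          map_comap_eq_self (by rw [Subgroup.range_subtype]; exact le_sup_left)]
      rw [e]
      exact Nat.le_of_dvd (Nat.pos_of_ne_zero index_ne_zero_of_finite)
        (relIndex_dvd_of_le_left _ fun k hk => hkerQ (mem_map_of_mem _ hk))
    refine (Nat.mul_le_mul hBcard hBcard).trans (hbnd.trans (le_of_eq ?_))
    rw [hfixB]
    exact hcardZ _ le_sup_left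

end CfsgLib.FourFree.Stellmacher
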