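import Cfsg.Agent.Lib.FourFree.Stellmacher.Main
import Cfsg.Agent.Lib.Fusion.System.QdFreeRows

/-!
# The rows on groups and systems without sections `S₄`, from `NoHConfig`

`fourFreeNormal_of_noHConfig` supplies the property used by the statements on fusion systems.
-/

set_option autoImplicit false

open Subgroup

namespace CfsgLib.FourFree.Stellmacher

universe u

/-- `FourFreeNormal` from the absence of configurations. -/
theorem fourFreeNormal_of_noHConfig (hno : NoHConfig.{u}) : CfsgLib.Fusion.FourFreeNormal.{u} :=
  fun _ _ _ _ hS => exists_characteristic hS hno

end CfsgLib.FourFree.Stellmacher
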