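import Cfsg.Agent.Lib.FourFree.Stellmacher.Closure

/-!
# Modules generated by fixed points outside `O₂`: reduction to irreducible ones

`ModData`: an elementary abelian normal subgroup `ι V` of `S` on which a group `H` without sections
of type `S₃` acts faithfully, generated by fixed points of `S`, the image of `S` being a Sylow
`2`-subgroup of `H`.  If there is no irreducible one outside `O₂(G)` for a minimal member `G`, then
there is none at all.
-/

set_option autoImplicit false
set_option linter.style.haveILetI false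

open Subgroup
open CfsgLib.CFun (fixOf IsOff mem_fixOf)

namespace CfsgLib.FourFree.Stellmacher

universe u

variable {S H V : Type u} [Group S] [Group H] [CommGroup V]

/-- A module generated by fixed points of `S` inside `S`. -/
structure ModData (π : S →* H) (ρ : H →* MulAut V) (ι : V →* S) : Prop where
  inj : Function.Injective ι
  faithful : Function.Injective ρ
  hg : HG H
  sq : ∀ v : V, v * v = 1
  sylow : ∃ T : Sylow 2 H, (T : Subgroup H) = π.range
  compat : ∀ (s : S) (v : V), ι (ρ (π s) v) = s * ι v * s⁻¹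
  gen : transl ρ ⊤ (fixOf ρ π.range) = ⊤

/-- A module as above outside `O₂` of a minimal member. -/
structure ModConfig {G : Type u} [Group G] (τ : S →* G) (π : S →* H) (ρ : H →* MulAut V)
    (ι : V →* S) : Prop where
  data : ModData π ρ ι
  two : IsPGroup 2 S
  member : IsMember G τ
  minimal : IsMinimal τ
  not_le : ¬ ι.range.map τ ≤ Cfsg.pCore 2 G

/-- The module is irreducible. -/
def IsIrred (ρ : H →* MulAut V) : Prop :=
  ∀ D : Subgroup V, (∀ h, ∀ v ∈ D, ρ h v ∈ D) → D = ⊥ ∨ D = ⊤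

/-- There is no irreducible configuration. -/
def NoIrredConfig : Prop :=
  ∀ (S G H V : Type u) [Group S] [Group G] [Group H] [CommGroup V] [Finite S] [Finite G] [Finite H]
    [Finite V] (τ : S →* G) (π : S →* H) (ρ : H →* MulAut V) (ι : V →* S),
    ModConfig τ π ρ ι → IsIrred ρ → False

theorem ModData.ker_eq {π : S →* H} {ρ : H →* MulAut V} {ι : V →* S} (hd : ModData π ρ ι) :
    π.ker = centralizer (ι.range : Set S) := by
  ext s
  rw [MonoidHom.mem_ker, mem_centralizer_iff]
  constructor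
  · rintro h _ ⟨v, rfl⟩
    have := hd.compat s v
    rw [h, map_one, MulAut.one_apply] at this
    exact eq_mul_inv_iff_mul_eq.1 this
  · intro h
    refine hd.faithful (MulEquiv.ext fun v => hd.inj ?_)
    rw [hd.compat, map_one, MulAut.one_apply, ← h _ ⟨v, rfl⟩, mul_inv_cancel_right]

theorem ModData.goodIn [Finite S] [Finite H] [Finite V] {π : S →* H} {ρ : H →* MulAut V}
    {ι : V →* S} (hd : ModData π ρ ι) : GoodIn ι.range := by
  refine ⟨⟨?_⟩, ?_, fun X hX hoff => ?_⟩
  · rintro _ ⟨v, rfl⟩ s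
    exact ⟨ρ (π s) v, hd.compat s v⟩
  · rintro _ ⟨v, rfl⟩
    rw [← map_mul, hd.sq, map_one]
  obtain ⟨T, hT⟩ := hd.sylow
  have hfix : ι.range ⊓ centralizer (X : Set S) = (fixOf ρ (X.map π)).map ι := by
    ext x
    constructor
    · rintro ⟨⟨v, rfl⟩, hc⟩
      refine ⟨v, mem_fixOf.2 ?_, rfl⟩
      rintro _ ⟨s, hs, rfl⟩
      refine hd.inj ?_
      rw [hd.compat, mem_centralizer_iff.1 hc s hs, mul_inv_cancel_right]
    · rintro ⟨v, hv, rfl⟩
      refine ⟨⟨v, rfl⟩, mem_centralizer_iff.2 fun s hs => ?_⟩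
      have := congrArg ι (mem_fixOf.1 hv _ (mem_map_of_mem π hs))
      rw [hd.compat] at this
      exact mul_inv_eq_iff_eq_mul.1 this
  have hbot := offender_eq_bot hd.faithful hd.hg hd.sq T (by rw [hT]; exact hd.gen)
    (B := X.map π) (hT ▸ map_le_range π X) ?_ ?_
  · rw [← hd.ker_eq]
    exact fun x hx => mem_bot.1 (hbot ▸ mem_map_of_mem π hx)
  · rintro _ ⟨x, hx, rfl⟩
    rw [← map_mul, ← MonoidHom.mem_ker, hd.ker_eq]
    exact hX x hx
  · unfold IsOff
    have h1 : Nat.card (X.map π) = (centralizer (ι.range : Set S)).relIndex X := by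
      rw [← relIndex_ker, hd.ker_eq]
    have h2 : Nat.card (fixOf ρ (X.map π)) * (centralizer (X : Set S)).relIndex ι.range =
        Nat.card V := by
      rw [← Subgroup.card_map_of_injective hd.inj, ← hfix, ← inf_relIndex_left ι.range,
        CfsgLib.CFun.card_mul_relIndex' inf_le_left, MonoidHom.range_eq_map ι,
        Subgroup.card_map_of_injective hd.inj, Subgroup.card_top]
    rw [h1, ← h2, mul_comm _ (Nat.card (fixOf ρ (X.map π)))]
    exact Nat.mul_le_mul_left _ hoff

/-- An invariant subgroup generated by the translates of a fixed point gives a module again. -/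
theorem ModData.restrict [Finite H] [Finite V] {π : S →* H} {ρ : H →* MulAut V} {ι : V →* S}
    (hd : ModData π ρ ι) {D : Subgroup V} (hD : ∀ h, ∀ v ∈ D, ρ h v ∈ D) {v : V} (hv : v ∈ D)
    (hvfix : v ∈ fixOf ρ π.range) (hgen : transl ρ ⊤ (zpowers v) = D)
    (hmin : ∀ E : Subgroup V, (∀ h, ∀ x ∈ E, ρ h x ∈ E) → E ≤ D → E = ⊥ ∨ E = D) :
    ∃ (H' : Type u) (_ : Group H') (_ : Finite H') (π' : S →* H') (ρ' : H' →* MulAut D),
      ModData π' ρ' (ι.comp D.subtype) ∧ IsIrred ρ' := by
  obtain ⟨H', _, _, π0, ρ', hπ0, hρ', hc⟩ := exists_image (ρ := ρ) (⊤ : Subgroup H) D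
    (le_setFix fun h _ => hD h)
  let f : H →* H' := π0.comp (Subgroup.topEquiv.symm : H ≃* (⊤ : Subgroup H)).toMonoidHom
  have hf : Function.Surjective f := hπ0.comp (MulEquiv.surjective _)
  have hfc : ∀ (h : H) (x : D), ((ρ' (f h) x : D) : V) = ρ h x := fun h x => hc _ x
  obtain ⟨T, hT⟩ := hd.sylow
  refine ⟨H', inferInstance, inferInstance, f.comp π, ρ', ⟨hd.inj.comp D.subtype_injective, hρ',
    hd.hg.quotient f hf, fun x => Subtype.ext (hd.sq x), ⟨T.mapSurjective hf, ?_⟩, fun s x => ?_,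
    ?_⟩, fun E hE => ?_⟩
  · rw [Sylow.coe_mapSurjective, hT, MonoidHom.range_comp]
  · show ι ((ρ' (f (π s)) x : D) : V) = s * ι (x : V) * s⁻¹
    rw [hfc]
    exact hd.compat s x
  · have hvE : (⟨v, hv⟩ : D) ∈ fixOf ρ' (f.comp π).range := by
      refine mem_fixOf.2 ?_
      rintro _ ⟨s, rfl⟩
      exact Subtype.ext ((hfc _ _).trans (mem_fixOf.1 hvfix _ ⟨s, rfl⟩))
    refine (Subgroup.eq_top_iff' _).2 fun x => ?_
    have hle : transl ρ ⊤ (zpowers v) ≤
        (transl ρ' ⊤ (fixOf ρ' (f.comp π).range)).map D.subtype := transl_le fun h _ w hw => by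
      obtain ⟨i, rfl⟩ := mem_zpowers_iff.1 hw
      refine ⟨ρ' (f h) (⟨v, hv⟩ ^ i), mem_transl (mem_top _) (zpow_mem hvE i), ?_⟩
      exact (hfc h _).trans (congrArg (ρ h) (D.coe_zpow _ i))
    obtain ⟨y, hy, hyx⟩ := hle (hgen.ge x.2)
    rwa [← Subtype.ext hyx]
  · rcases hmin (E.map D.subtype) (by
      rintro h _ ⟨x, hx, rfl⟩
      exact ⟨ρ' (f h) x, hE _ x hx, hfc h x⟩) (map_subtype_le E) with e | e
    · exact Or.inl ((Subgroup.map_eq_bot_iff_of_injective _ D.subtype_injective).1 e)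
    · refine Or.inr (map_injective D.subtype_injective (e.trans ?_))
      rw [← MonoidHom.range_eq_map, Subgroup.range_subtype]

/-- Quotient of a minimal member by a normal subgroup centralized by `O²`. -/
theorem IsMember.quotient {G : Type u} [Group G] [Finite G] {τ : S →* G} (hm : IsMember G τ)
    (hmin : IsMinimal τ) {U : Subgroup S} [U.Normal] {R : Subgroup G} [hRn : R.Normal]
    (hR : R = U.map τ) (hres : Cfsg.pResidual 2 G ≤ centralizer (R : Set G))
    (hsq : ∀ r ∈ R, r * r = 1) :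
    ∃ τ' : S ⧸ U →* G ⧸ R, (∀ s : S, τ' (s : S ⧸ U) = (τ s : G ⧸ R)) ∧ IsMember (G ⧸ R) τ' ∧
      IsMinimal τ' ∧
      ∀ W : Subgroup S, (W.map (QuotientGroup.mk' U)).map τ' ≤ Cfsg.pCore 2 (G ⧸ R) →
        W.map τ ≤ Cfsg.pCore 2 G := by
  haveI : Fact (Nat.Prime 2) := ⟨Nat.prime_two⟩
  set q := QuotientGroup.mk' R with hq
  have hqs : Function.Surjective q := QuotientGroup.mk'_surjective R
  have hRr : R ≤ τ.range := hR ▸ map_le_range τ U
  let τ' : S ⧸ U →* G ⧸ R := QuotientGroup.map U R τ (hR ▸ le_comap_map τ U)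
  have hτ' : ∀ s : S, τ' (s : S ⧸ U) = (τ s : G ⧸ R) := fun s => rfl
  have hτq : ∀ W : Subgroup S, (W.map (QuotientGroup.mk' U)).map τ' = (W.map τ).map q := fun W => by
    rw [map_map, map_map]
    rfl
  have hrange : τ'.range = τ.range.map q := by
    have h := hτq ⊤
    rwa [map_top_of_surjective _ (QuotientGroup.mk'_surjective U), ← MonoidHom.range_eq_map,
      ← MonoidHom.range_eq_map] at h
  set Q := Cfsg.pCore 2 G with hQ
  haveI hQn : Q.Normal := Subgroup.sSup_normal _ fun N hN => hN.1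
  have hQp : IsPGroup 2 Q := CfsgLib.PGroup.isPGroup_pCore 2 G
  have hR2 : IsPGroup 2 R := fun r => ⟨1, Subtype.ext (by
    show (r : G) ^ 2 ^ 1 = 1
    rw [pow_one, pow_two]; exact hsq r r.2)⟩
  have hRQ : R ≤ Q := CfsgLib.PGroup.le_pCore hRn hR2
  have hker : IsPGroup 2 q.ker := by rw [hq, QuotientGroup.ker_mk']; exact hR2
  have hcomap : (Cfsg.pCore 2 (G ⧸ R)).comap q = Q := by
    refine le_antisymm (CfsgLib.PGroup.le_pCore ?_
      ((CfsgLib.PGroup.isPGroup_pCore 2 _).comap_of_ker_isPGroup q hker)) ?_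
    · haveI : (Cfsg.pCore 2 (G ⧸ R)).Normal := Subgroup.sSup_normal _ fun N hN => hN.1
      exact inferInstance
    · rw [← map_le_iff_le_comap]
      exact CfsgLib.PGroup.le_pCore (hQn.map q hqs) (hQp.map q)
  obtain ⟨P, hP⟩ := hm.sylow
  refine ⟨τ', hτ', ⟨?_, ⟨P.mapSurjective hqs, ?_⟩, fun hi =>
    hm.free (CfsgLib.Fusion.involves_of_surjective q hqs hi), ?_⟩, ?_, fun W hW => ?_⟩
  · rw [injective_iff_map_eq_one]
    intro x
    induction x using QuotientGroup.induction_on with
    | _ s =>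
      intro hs
      rw [hτ', QuotientGroup.eq_one_iff, hR] at hs
      exact (QuotientGroup.eq_one_iff s).2 ((Subgroup.mem_map_iff_mem hm.inj).1 hs)
  · rw [Sylow.coe_mapSurjective, hP, hrange]
  · set N := (centralizer (Cfsg.pCore 2 (G ⧸ R) : Set (G ⧸ R))).comap q with hN
    haveI : (Cfsg.pCore 2 (G ⧸ R)).Normal := Subgroup.sSup_normal _ fun N hN => hN.1
    haveI hNn : N.Normal := inferInstance
    have hN2 : IsPGroup 2 N := by
      intro g
      obtain ⟨e, m, hm2, hem⟩ := Nat.exists_eq_two_pow_mul_odd (orderOf_pos (g : G)).ne'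
      refine ⟨e, Subtype.ext ?_⟩
      show (g : G) ^ 2 ^ e = 1
      set d := (g : G) ^ 2 ^ e with hd
      have hdN : d ∈ N := pow_mem g.2 _
      have hdm : d ^ m = 1 := by rw [hd, ← pow_mul, ← hem, pow_orderOf_eq_one]
      have hcop : Nat.Coprime (orderOf d) 2 :=
        Nat.Coprime.coprime_dvd_left (orderOf_dvd_of_pow_eq_one hdm) (Nat.coprime_two_right.2 hm2)
      have hdR : ∀ r ∈ R, r * d = d * r := fun r hr =>
        mem_centralizer_iff.1 (hres (subset_closure hcop)) r hr
      have hdQ : d ∈ Q := hm.constrained (mem_centralizer_iff.2 fun x hx => by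
        have h1 := mem_centralizer_iff.1 (show q d ∈ centralizer _ from hdN) (q x)
          (show x ∈ (Cfsg.pCore 2 (G ⧸ R)).comap q from hcomap.symm ▸ hx)
        set r := d * x * d⁻¹ * x⁻¹ with hr
        have hrR : r ∈ R := by
          rw [← QuotientGroup.eq_one_iff, ← QuotientGroup.mk'_apply, ← hq, hr]
          simp only [map_mul, map_inv]
          rw [← h1]
          group
        have hi : ∀ i : ℕ, d ^ i * x * (d ^ i)⁻¹ = r ^ i * x := by
          intro i
          induction i with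
          | zero => simp
          | succ i ihi =>
            have hc : Commute d (r ^ i) := (show Commute d r from (hdR r hrR).symm).pow_right i
            calc d ^ (i + 1) * x * (d ^ (i + 1))⁻¹ = d * (d ^ i * x * (d ^ i)⁻¹) * d⁻¹ := by
                  rw [pow_succ']; group
              _ = d * r ^ i * x * d⁻¹ := by rw [ihi]; group
              _ = r ^ i * (d * x * d⁻¹) := by rw [hc.eq]; group
              _ = r ^ (i + 1) * x := by rw [pow_succ, hr]; group
        have h2 := hi m
        rw [hdm, one_mul, inv_one, mul_one, right_eq_mul] at h2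
        obtain ⟨j, rfl⟩ := hm2
        rw [pow_succ, pow_mul, pow_two, hsq r hrR, one_pow, one_mul] at h2
        exact (mul_inv_eq_iff_eq_mul.1 (mul_inv_eq_one.1 (hr.symm.trans h2))).symm)
      obtain ⟨k, hk⟩ := hQp ⟨d, hdQ⟩
      exact orderOf_eq_one_iff.1 (Nat.eq_one_of_dvd_coprimes
        (Nat.Coprime.pow_right k (Nat.coprime_two_right.2 hm2)) (orderOf_dvd_of_pow_eq_one hdm)
        (orderOf_dvd_of_pow_eq_one (congrArg Subtype.val hk)))
    intro c hc
    obtain ⟨g, rfl⟩ := hqs c
    have := CfsgLib.PGroup.le_pCore hNn hN2 (show g ∈ N from hc)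
    rw [← hQ, ← hcomap] at this
    exact this
  · obtain ⟨hnr, M, hM, hrM, huniq⟩ := hmin
    have hker' : q.ker ≤ τ.range := by rw [hq, QuotientGroup.ker_mk']; exact hRr
    refine ⟨fun hn => hnr ?_, M.map q, fun e => hM ?_, ?_, fun K hK hne => ?_⟩
    · rw [hrange] at hn
      have := hn.comap q
      rwa [comap_map_eq_self hker'] at this
    · have := congrArg (Subgroup.comap q) e
      rwa [comap_map_eq_self (hker'.trans hrM), comap_top] at this
    · rw [hrange]; exact map_mono hrM
    · rw [← map_comap_eq_self_of_surjective hqs K]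
      refine map_mono (huniq _ ?_ fun e => hne ?_)
      · rw [← map_le_iff_le_comap, ← hrange]; exact hK
      · rw [← map_comap_eq_self_of_surjective hqs K, e, map_top_of_surjective _ hqs]
  · rw [hτq, map_le_iff_le_comap, hcomap] at hW
    exact hW

/-- Without irreducible configurations there are no module configurations. -/
theorem false_of_modConfig_aux (hno : NoIrredConfig.{u}) (n : ℕ) : ∀ (S G H V : Type u) [Group S]
    [Group G] [Group H] [CommGroup V] [Finite S] [Finite G] [Finite H] [Finite V] (τ : S →* G)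
    (π : S →* H) (ρ : H →* MulAut V) (ι : V →* S), Nat.card S = n → ModConfig τ π ρ ι → False := by
  induction n using Nat.strong_induction_on with
  | _ n ih =>
  intro S G H V _ _ _ _ _ _ _ _ τ π ρ ι hn hc
  have hV : (⊤ : Subgroup V) ≠ ⊥ := fun e => hc.not_le (by
    rw [MonoidHom.range_eq_map, e, Subgroup.map_bot, Subgroup.map_bot]; exact bot_le)
  obtain ⟨D, ⟨hDne, hDinv⟩, hDmin⟩ := (Set.toFinite
    {D : Subgroup V | D ≠ ⊥ ∧ ∀ h, ∀ v ∈ D, ρ h v ∈ D}).exists_minimal
    ⟨⊤, hV, fun _ _ _ => mem_top _⟩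
  obtain ⟨v, hvD, hv1, hvfix⟩ := exists_fixed (ρ := ρ) hc.data.sq (X := π.range)
    (by rw [MonoidHom.range_eq_map]; exact (hc.two.to_subgroup ⊤).map π)
    hDne (le_setFix fun h _ => hDinv h)
  have hDe : ∀ E : Subgroup V, (∀ h, ∀ x ∈ E, ρ h x ∈ E) → E ≤ D → E = ⊥ ∨ E = D := fun E hE hle =>
    or_iff_not_imp_left.2 fun hne => le_antisymm hle (hDmin ⟨hne, hE⟩ hle)
  have hgen : transl ρ ⊤ (zpowers v) = D := by
    refine (hDe _ (fun h x hx => apply_mem_of_setFix (le_setFix_transl ⊤ _ (mem_top h)) hx)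
      (transl_le fun h _ w hw => hDinv h w (zpowers_le.2 hvD hw))).resolve_left fun e => hv1 ?_
    have := le_transl (ρ := ρ) ⊤ _ (mem_zpowers v)
    rwa [e, mem_bot] at this
  obtain ⟨H', _, _, π', ρ', hd', hirr⟩ := hc.data.restrict hDinv hvD hvfix hgen hDe
  have hU := hd'.goodIn
  have hUeq : (ι.comp D.subtype).range = D.map ι := by
    rw [MonoidHom.range_comp, Subgroup.range_subtype]
  by_cases hDQ : (ι.comp D.subtype).range.map τ ≤ Cfsg.pCore 2 G
  swap
  · exact hno S G H' D τ π' ρ' (ι.comp D.subtype) ⟨hd', hc.two, hc.member, hc.minimal, hDQ⟩ hirr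
  set U := (ι.comp D.subtype).range with hUdef
  obtain ⟨hRn, hres⟩ := hc.member.normal_of_good hc.minimal hc.data.goodIn hc.not_le hU hDQ
  haveI := hU.normal
  haveI := hRn
  have hUne : U ≠ ⊥ := by
    rw [hUeq]
    exact fun e => hDne ((Subgroup.map_eq_bot_iff_of_injective _ hc.data.inj).1 e)
  obtain ⟨τq, -, hmq, hminq, hWq⟩ := hc.member.quotient hc.minimal (U := U) (R := U.map τ) rfl
    hres (sq_map hU.sq)
  -- the quotient module
  obtain ⟨V', _, _, q, H'', _, _, f, ρ'', hq, hqker, hf, hρ'', hact⟩ :=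
    exists_section (ρ := ρ) (P := ⊤) (N := D) (fun _ _ _ => mem_top _) hDinv
  let g0 : (⊤ : Subgroup V) →* S ⧸ U := (QuotientGroup.mk' U).comp (ι.comp (⊤ : Subgroup V).subtype)
  have hg0 : ∀ x, g0 x = 1 ↔ q x = 1 := fun x => by
    rw [hqker]
    show (QuotientGroup.mk' U) (ι x) = 1 ↔ _
    rw [QuotientGroup.mk'_apply, QuotientGroup.eq_one_iff, hUeq,
      Subgroup.mem_map_iff_mem hc.data.inj]
  let ι' : V' →* S ⧸ U := q.liftOfSurjective hq ⟨g0, fun x hx => (hg0 x).2 hx⟩
  have hι' : ∀ x, ι' (q x) = g0 x := fun x => q.liftOfRightInverse_comp_apply _ _ _ x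
  have hUker : U ≤ (f.comp π).ker := fun u hu => by
    rw [hUeq] at hu
    obtain ⟨d, -, rfl⟩ := hu
    have : ι d ∈ π.ker := by
      rw [hc.data.ker_eq, mem_centralizer_iff]
      exact fun x hx => (commute_of_sq' hc.data.goodIn.sq hx ⟨d, rfl⟩).eq
    rw [MonoidHom.mem_ker, MonoidHom.comp_apply, MonoidHom.mem_ker.1 this, map_one]
  let π'' : S ⧸ U →* H'' := QuotientGroup.lift U (f.comp π) hUker
  obtain ⟨T, hT⟩ := hc.data.sylow
  have hrange : π''.range = π.range.map f := by
    rw [← MonoidHom.range_comp]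
    ext y
    constructor
    · rintro ⟨x, rfl⟩
      induction x using QuotientGroup.induction_on with
      | _ s => exact ⟨s, rfl⟩
    · rintro ⟨s, rfl⟩
      exact ⟨s, rfl⟩
  have hd'' : ModData π'' ρ'' ι' := by
    refine ⟨?_, hρ'', hc.data.hg.quotient f hf, fun w => ?_, ⟨T.mapSurjective hf, ?_⟩,
      fun s w => ?_, ?_⟩
    · rw [injective_iff_map_eq_one]
      intro w hw
      obtain ⟨x, rfl⟩ := hq w
      rw [hι', hg0] at hw
      exact hw
    · obtain ⟨x, rfl⟩ := hq w
      rw [← map_mul, show x * x = 1 from Subtype.ext (hc.data.sq x), map_one]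
    · rw [Sylow.coe_mapSurjective, hT, hrange]
    · obtain ⟨x, rfl⟩ := hq w
      induction s using QuotientGroup.induction_on with
      | _ s =>
        show ι' (ρ'' (f (π s)) (q x)) = _
        rw [hact, hι', hι']
        show (QuotientGroup.mk' U) (ι (ρ (π s) (x : V))) = _
        rw [hc.data.compat, map_mul, map_mul, map_inv]
        rfl
    · refine (Subgroup.eq_top_iff' _).2 fun w => ?_
      obtain ⟨x, rfl⟩ := hq w
      have hle : transl ρ ⊤ (fixOf ρ π.range) ≤ ((transl ρ'' ⊤ (fixOf ρ'' π''.range)).comap q).map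
          (⊤ : Subgroup V).subtype := transl_le fun h _ y hy => by
        refine ⟨⟨ρ h y, mem_top _⟩, ?_, rfl⟩
        show q _ ∈ transl ρ'' ⊤ _
        rw [← hact h ⟨y, mem_top _⟩]
        refine mem_transl (mem_top _) (mem_fixOf.2 ?_)
        rw [hrange]
        rintro _ ⟨k, hk, rfl⟩
        rw [hact]
        exact congrArg q (Subtype.ext (mem_fixOf.1 hy k hk))
      obtain ⟨y, hy, hyx⟩ := hle (hc.data.gen.ge (mem_top (x : V)))
      rwa [← Subtype.ext hyx]
  have hlt : Nat.card (S ⧸ U) < n := by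
    rw [← hn, Subgroup.card_eq_card_quotient_mul_card_subgroup U]
    exact lt_mul_of_one_lt_right Nat.card_pos ((Subgroup.one_lt_card_iff_ne_bot _).2 hUne)
  refine ih _ hlt (S ⧸ U) (G ⧸ U.map τ) H'' V' τq π'' ρ'' ι' rfl
    ⟨hd'', hc.two.to_quotient U, hmq, hminq, fun h => hc.not_le (hWq ι.range ?_)⟩
  refine le_trans (le_of_eq (congrArg (Subgroup.map τq) ?_)) h
  ext y
  constructor
  · rintro ⟨_, ⟨x, rfl⟩, rfl⟩
    exact ⟨q ⟨x, mem_top _⟩, hι' _⟩
  · rintro ⟨w, rfl⟩
    obtain ⟨x, rfl⟩ := hq w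
    exact ⟨ι x, ⟨x, rfl⟩, (hι' x).symm⟩

/-- The reduction to irreducible modules. -/
theorem false_of_modConfig (hno : NoIrredConfig.{u}) {S G H V : Type u} [Group S] [Group G]
    [Group H] [CommGroup V] [Finite S] [Finite G] [Finite H] [Finite V] {τ : S →* G} {π : S →* H}
    {ρ : H →* MulAut V} {ι : V →* S} (hc : ModConfig τ π ρ ι) : False :=
  false_of_modConfig_aux hno _ S G H V τ π ρ ι rfl hc

/-- The conjugates of `Ω₁ Z(S)` in one member lie in `O₂` of every minimal member. -/
theorem span_omegaZ_le (hno : NoIrredConfig.{u}) {S G G' : Type u} [Group S] [Finite S]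
    (hS : IsPGroup 2 S) [Group G] [Finite G] [Group G'] [Finite G'] {τ : S →* G} {τ' : S →* G'}
    (hm : IsMember G τ) (hmin : IsMinimal τ) (hm' : IsMember G' τ') :
    (spanOf τ' (omegaZ S)).map τ ≤ Cfsg.pCore 2 G := by
  haveI : Fact (Nat.Prime 2) := ⟨Nat.prime_two⟩
  by_contra hne
  set A := (omegaZ S).map τ' with hA
  set E := normalClosure (A : Set G') with hE
  haveI hEn : E.Normal := normalClosure_normal
  have hQ := map_le_pCore_of_omegaZ hm'
  have hE2 := hm'.sq_normalClosure goodIn_omegaZ hQ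
  have hEr : E ≤ τ'.range := (hm'.normalClosure_le_pCore hQ).trans hm'.pCore_le_range
  letI : CommGroup E := { mul_comm := fun a b => Subtype.ext (commute_of_sq' hE2 a.2 b.2).eq }
  let ρ0 : G' →* MulAut E := MulAut.conjNormal
  let π0 := QuotientGroup.mk' ρ0.ker
  let ρ := QuotientGroup.kerLift ρ0
  have hπ : Function.Surjective π0 := QuotientGroup.mk'_surjective _
  have hact : ∀ (g : G') (v : E), ((ρ (π0 g) v : E) : G') = g * v * g⁻¹ := fun g v => rfl
  let e : S ≃* τ'.range := MonoidHom.ofInjective hm'.inj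
  let ι : E →* S := e.symm.toMonoidHom.comp (Subgroup.inclusion hEr)
  have hι : ∀ v : E, τ' (ι v) = v := fun v =>
    congrArg Subtype.val (e.apply_symm_apply (Subgroup.inclusion hEr v))
  have hιinj : Function.Injective ι := fun a b h => Subtype.ext (by rw [← hι a, ← hι b, h])
  obtain ⟨P, hP⟩ := hm'.sylow
  have hd : ModData (π0.comp τ') ρ ι := by
    refine ⟨hιinj, QuotientGroup.kerLift_injective _, ?_, fun v => Subtype.ext (hE2 _ v.2),
      ⟨P.mapSurjective hπ, ?_⟩, fun s v => hm'.inj ?_, ?_⟩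
    · exact hg_of_not_involves hm'.free π0 hπ (MonoidHom.id E) Function.surjective_id
        (QuotientGroup.kerLift_injective _) hEn (fun g v => Subtype.ext (hact g v))
        (fun a ha b hb => commute_of_sq' hE2 ha hb) fun v => Subtype.ext (hE2 _ v.2)
    · rw [Sylow.coe_mapSurjective, hP, MonoidHom.range_comp]
    · rw [hι, map_mul, map_mul, map_inv, hι]
      exact hact _ _
    · have hfix : A.subgroupOf E ≤ fixOf ρ (π0.comp τ').range := fun v hv => mem_fixOf.2 (by
        rintro _ ⟨s, rfl⟩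
        obtain ⟨z, hz, hzv⟩ := hv
        refine Subtype.ext ?_
        show ((ρ (π0 (τ' s)) v : E) : G') = v
        rw [hact]
        have hzv' : τ' z = (v : G') := hzv
        rw [← hzv', ← map_inv, ← map_mul, ← map_mul, Subgroup.mem_center_iff.1 hz.1 s,
          mul_inv_cancel_right])
      have hle : E ≤ (transl ρ ⊤ (fixOf ρ (π0.comp τ').range)).map E.subtype := by
        refine (closure_le (k := Group.conjugatesOfSet (A : Set G')) _).2 fun y hy => ?_
        obtain ⟨a, ha, hay⟩ := Group.mem_conjugatesOfSet_iff.1 hy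
        obtain ⟨k, rfl⟩ := isConj_iff.1 hay
        exact ⟨ρ (π0 k) ⟨a, subset_normalClosure ha⟩,
          mem_transl (mem_top _) (hfix ha), hact k _⟩
      refine (Subgroup.eq_top_iff' _).2 fun v => ?_
      obtain ⟨w, hw, hwv⟩ := hle v.2
      rwa [← Subtype.ext hwv]
  have hrange : ι.range = spanOf τ' (omegaZ S) := by
    ext s
    constructor
    · rintro ⟨v, rfl⟩
      show τ' (ι v) ∈ E
      rw [hι]; exact v.2
    · exact fun hs => ⟨⟨τ' s, hs⟩, hm'.inj (hι _)⟩
  exact false_of_modConfig hno ⟨hd, hS, hm, hmin, fun h => hne (hrange ▸ h)⟩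

end CfsgLib.FourFree.Stellmacher
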